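import Groth.Agent.Lib.SemiAb16.Main
import Groth.Agent.Lib.NeronCompGrp24.Split
import Groth.Agent.Lib.TorusPrim24.Main
import Groth.Agent.Lib.AlgGrp14.Core
import Groth.Agent.Lib.TorusNorm25.Torus
import Groth.Agent.Lib.RankCell14.Weight

/-!
# Commutative groups without additive subgroups are divisible
-/

set_option autoImplicit false
set_option linter.all false
set_option backward.isDefEq.respectTransparency false
set_option maxHeartbeats 1000000
set_option synthInstance.maxHeartbeats 200000

universe u

open CategoryTheory CategoryTheory.Limits MonoidalCategory CartesianMonoidalCategory MonObj GrpObj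
open AlgebraicGeometry Topology
open GrothLib.MultHopf14 GrothLib.MultDef14 GrothLib.CentMT14
open scoped TensorProduct

noncomputable section

namespace GrothLib.SplitRed1

open GrothLib GrothLib.SemiAb16

variable {k : Type u} [Field k] [IsAlgClosed k]

local notation "S₀" => Spec (CommRingCat.of k)

/-- A non-trivial smooth connected solvable affine group without tori contains the additive
group as a subgroup. -/
theorem exists_Ga_hom : ∀ (n : ℕ) (U : Over (Spec (CommRingCat.of k))) [GrpObj U] [IsAffine U.left] [Smooth U.hom]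
    [ConnectedSpace U.left], Group.IsSolvable (𝟙_ (Over (Spec (CommRingCat.of k))) ⟶ U) → Red.HasNoSubtorus k U →
    topologicalKrullDim U.left = n → n ≠ 0 → ∃ u : Red.Ga S₀ ⟶ U, IsMonHom u ∧ Mono u := by
  intro n
  induction n using Nat.strong_induction_on with
  | _ n ih =>
  intro U _ _ _ _ hs hnt hn hn0
  haveI : IsIntegral U.left := Euler.isIntegral_of_smooth_connected k U.hom
  haveI : IsReduced U.left := Rigidity.isReduced_of_smooth U.hom
  haveI : IsAffineHom U.hom := isAffineHom_of_isAffine _
  haveI : QuasiCompact U.hom := inferInstance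
  haveI : IsSeparated U.hom := GrpSchField.isSeparated U
  have hne : ¬ Subsingleton U.left := fun hss => by
    haveI := hss
    have := Chev24.dim_le_zero_of_subsingleton (X := U.left)
    rw [hn] at this
    exact hn0 (Nat.le_zero.1 (by exact_mod_cast this))
  have h1 : 𝟙 U ≠ 1 := fun h => hne (isIso_of_trivial h)
  by_cases hn1 : n = 1
  · subst hn1
    rcases Groth.Agent.S12500.result k U (by exact_mod_cast hn) with ⟨⟨e⟩⟩ | ⟨⟨e⟩⟩ | ⟨hp, -⟩
    · exact ⟨((Grp.forget _).mapIso e).inv, e.inv.hom.isMonHom_hom, inferInstance⟩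
    · exfalso
      have hT : Red.IsTorus U := Flag27.isTorus_of_grpIso e.symm (RankCell14.isTorus_Gm (Spec (CommRingCat.of k)))
      have h := hnt U (𝟙 U) hT
      haveI : IsIso U.hom := h
      exact h1 (Over.OverMorphism.ext ((cancel_mono U.hom).1 (by rw [Over.w, Over.w])))
    · exfalso
      haveI := hp
      exact h1 (AlbTors16.hom_eq_one_affine_proper (𝟙 U))
  obtain ⟨φ, hφ, hφ1⟩ := exists_hom_line (Flag27.isUnip_of_solvable_noSubtorus hs hnt) h1
  haveI := hφ
  let V := specGrp (R := k) (SymmetricAlgebra k k)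
  haveI : IsAffine V.left := inferInstanceAs (IsAffine (Spec (CommRingCat.of (SymmetricAlgebra k k))))
  haveI : LocallyOfFiniteType V.hom := by
    haveI : Algebra.FiniteType k (SymmetricAlgebra k k) :=
      Algebra.FiniteType.equiv inferInstance (SymmetricAlgebra.equivMvPolynomial (Module.Basis.singleton (Fin 1) k)).symm
    exact (HasRingHomProperty.Spec_iff (P := @LocallyOfFiniteType)).2 (RingHom.finiteType_algebraMap.2 ‹_›)
  haveI : IsSeparated V.hom := GrpSchField.isSeparated V
  haveI : QuasiCompact φ.left := by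
    haveI : QuasiCompact (φ.left ≫ V.hom) := by rw [Over.w φ]; infer_instance
    exact QuasiCompact.of_comp _ V.hom
  have hdim := Neutral.dim_eq_add_field φ
  have hrange : topologicalKrullDim (Set.range φ.left) ≤ 1 :=
    (IsEmbedding.subtypeVal.topologicalKrullDim_le).trans (by
      show topologicalKrullDim (PrimeSpectrum (SymmetricAlgebra k k)) ≤ 1
      rw [PrimeSpectrum.topologicalKrullDim_eq_ringKrullDim]
      exact SplitTors24.dim_sym_le k)
  -- the kernel
  let K := pullback φ η[V]
  let iK : K ⟶ U := pullback.fst φ η[V]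
  have hK : AlgGrp.IsKernel iK φ := by
    show IsPullback _ _ _ _
    rw [Subsingleton.elim (toUnit _) (pullback.snd φ η[V])]
    exact IsPullback.of_hasPullback φ η[V]
  obtain ⟨_, _⟩ := GrpDeligne.exists_grpObj_kernel φ iK hK
  have hsqK := (IsPullback.of_hasPullback φ η[V]).map (Over.forget _)
  haveI := GrothLib.GrpSchField.unit_isClosedImmersion V
  haveI : IsClosedImmersion iK.left :=
    MorphismProperty.of_isPullback hsqK.flip (inferInstanceAs (IsClosedImmersion η[V].left))
  haveI : LocallyOfFiniteType K.hom := by rw [← Over.w iK]; infer_instance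
  haveI : QuasiCompact K.hom := by rw [← Over.w iK]; infer_instance
  obtain ⟨K₀, _, jK, hjK, hjKc, hKs, hKc, hKdim, -⟩ := Chev24.exists_redNeutral K
  haveI := hjK; haveI := hjKc; haveI := hKs; haveI := hKc
  let j₀ : K₀ ⟶ U := jK ≫ iK
  haveI : IsClosedImmersion j₀.left := inferInstanceAs (IsClosedImmersion (jK.left ≫ iK.left))
  haveI : IsMonHom j₀ := inferInstanceAs (IsMonHom (jK ≫ iK))
  haveI : Mono j₀ := Over.mono_of_mono_left j₀
  haveI : IsAffine K₀.left := isAffine_of_isAffineHom j₀.left
  haveI : IsIntegral K₀.left := Euler.isIntegral_of_smooth_connected k K₀.hom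
  haveI : QuasiCompact K₀.hom := by rw [← Over.w j₀]; infer_instance
  obtain ⟨m, hm⟩ := Chev24.exists_nat_dim (k := k) K₀
  have hKK : topologicalKrullDim ↥(pullback φ.left η[V].left) = topologicalKrullDim K.left :=
    (IsHomeomorph.topologicalKrullDim_eq _ hsqK.isoPullback.hom.homeomorph.isHomeomorph).symm
  rw [hKK, ← hKdim, hm, hn] at hdim
  have hirr : IsIrreducible (Set.range φ.left) := by
    rw [← Set.image_univ]
    exact (IrreducibleSpace.isIrreducible_univ _).image _ φ.left.continuous.continuousOn
  haveI : IrreducibleSpace ↥(Set.range φ.left) := Subtype.irreducibleSpace hirr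
  haveI : Nonempty (TopologicalSpace.IrreducibleCloseds ↥(Set.range φ.left)) :=
    ⟨⟨Set.univ, IrreducibleSpace.isIrreducible_univ _, isClosed_univ⟩⟩
  obtain ⟨r, hr, hr1⟩ : ∃ r : ℕ, topologicalKrullDim (Set.range φ.left) = r ∧ r ≤ 1 := by
    have h0 : 0 ≤ topologicalKrullDim (Set.range φ.left) := Order.krullDim_nonneg
    generalize hd : topologicalKrullDim ↥(Set.range φ.left) = d at hrange h0 ⊢
    induction d using WithBot.recBotCoe with
    | bot => simp at h0
    | coe a =>
      induction a using ENat.recTopCoe with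
      | top => exact absurd (WithBot.coe_le_coe.1 hrange : (⊤ : ℕ∞) ≤ 1) (by simp)
      | coe r => exact ⟨r, rfl, by exact_mod_cast hrange⟩
  rw [hr] at hdim
  have hnm : n = r + m := by exact_mod_cast hdim
  rcases Nat.eq_zero_or_pos r with rfl | hr0
  · exfalso
    refine hφ1 ?_
    have hcl : IsClosed (Set.range φ.left) := by
      obtain ⟨I, _, p, jI, hp, hjI, hpj, hps, -, -, hm', hI, -⟩ := Neutral.exists_factor_field φ
      haveI := hjI; haveI := hps; haveI := hm'; haveI := hI
      haveI := (Neutral.isClosedImmersion_factor φ hpj).1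
      rw [← hpj, Over.comp_left, Scheme.Hom.comp_base, TopCat.coe_comp, Set.range_comp, p.left.surjective.range_eq,
        Set.image_univ]
      exact jI.left.isClosedEmbedding.isClosed_range
    haveI : CompactSpace V.left := inferInstance
    have hsub := GrothLib.Dim.subsingleton_of_dim_eq_zero (S := Set.range φ.left) hcl hirr (by rw [hr]; exact_mod_cast le_rfl)
    refine Rigidity.ext_of_points φ 1 fun q => ?_
    rw [MonObj.comp_one]
    refine Flag27.eq_of_cl ?_
    refine hsub ?_ ?_
    · exact ⟨_, (Flag27.cl_comp _ φ).symm⟩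
    · exact ⟨Flag27.cl (1 : 𝟙_ (Over (Spec (CommRingCat.of k))) ⟶ U), by rw [← Flag27.cl_comp, MonObj.one_comp]⟩
  obtain ⟨u, hu₁, hu⟩ := ih m (by omega) K₀ (isSolvable_of_mono j₀ hs) (hasNoSubtorus_of_mono j₀ hnt) hm (by omega)
  haveI := hu; haveI := hu₁
  exact ⟨u ≫ j₀, inferInstance, inferInstance⟩

attribute [-instance] Hom.commGroup Hom.commMonoid CommGrpObj.toIsCommMonObj

/-- A connected smooth commutative group killed by a positive integer and without additive subgroups is a point. -/
theorem subsingleton_of_killed {n : ℕ} (hn : n ≠ 0) (G : Over (Spec (CommRingCat.of k))) [GrpObj G] [IsCommMonObj G]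
    [Smooth G.hom] [QuasiCompact G.hom] [ConnectedSpace G.left]
    (hga : ∀ u : Red.Ga S₀ ⟶ G, IsMonHom u → IsClosedImmersion u.left → False)
    (hk : (𝟙 G : G ⟶ G) ^ n = 1) : Subsingleton G.left := by
  haveI : IsIntegral G.left := Euler.isIntegral_of_smooth_connected k G.hom
  haveI : IsSeparated G.hom := GrpSchField.isSeparated G
  by_cases hp : IsProper G.hom
  · haveI := Cube.geometricallyIntegral_of_isAlgClosed G
    exact Cube.subsingleton_of_pow_eq_one hn hk
  exfalso
  obtain ⟨H, _, j, hj, hjc, hHs, hHa, hHdim⟩ := Chev24.exists_affine_of_not_isProper hp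
  haveI := hj; haveI := hjc; haveI := hHs; haveI := hHa
  haveI : QuasiCompact H.hom := by rw [← Over.w j]; infer_instance
  obtain ⟨H₀, _, i, hi, hic, hs₀, hc₀, hdim, -⟩ := Chev24.exists_redNeutral H
  haveI := hi; haveI := hic; haveI := hs₀; haveI := hc₀
  let v : H₀ ⟶ G := i ≫ j
  haveI : IsClosedImmersion v.left := inferInstanceAs (IsClosedImmersion (i.left ≫ j.left))
  haveI : Mono v := Over.mono_of_mono_left v
  haveI : IsAffine H₀.left := isAffine_of_isAffineHom i.left
  haveI : QuasiCompact H₀.hom := by rw [← Over.w v]; infer_instance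
  haveI : IsIntegral H₀.left := Euler.isIntegral_of_smooth_connected k H₀.hom
  haveI : IsCommMonObj H₀ := AlgGrp14.isCommMonObj_of_mono v
  have hk₀ : (𝟙 H₀ : H₀ ⟶ H₀) ^ n = 1 := by
    refine (cancel_mono v).1 ?_
    rw [MonObj.one_comp, MonObj.pow_comp, Category.id_comp, show v ^ n = v ≫ (𝟙 G) ^ n by
      rw [MonObj.comp_pow, Category.comp_id], hk, MonObj.comp_one]
  have hnt : Red.HasNoSubtorus k H₀ := fun T _ t _ _ hT => by
    haveI := TorusPrim24.surjective_pow_of_isTorus hT (Nat.pos_of_ne_zero hn)
    have h1 : (𝟙 T : T ⟶ T) ^ n = 1 := by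
      refine (cancel_mono t).1 ?_
      rw [MonObj.one_comp, MonObj.pow_comp, Category.id_comp, show t ^ n = t ≫ (𝟙 H₀) ^ n by
        rw [MonObj.comp_pow, Category.comp_id], hk₀, MonObj.comp_one]
    have hsub : Subsingleton T.left := by
      refine ⟨fun x y => ?_⟩
      obtain ⟨a, rfl⟩ := ((𝟙 T : T ⟶ T) ^ n).left.surjective x
      obtain ⟨b, rfl⟩ := ((𝟙 T : T ⟶ T) ^ n).left.surjective y
      haveI : Subsingleton ↥(𝟙_ (Over (Spec (CommRingCat.of k)))).left :=
        inferInstanceAs (Subsingleton (PrimeSpectrum k))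
      rw [h1, Hom.one_def, Over.comp_left, Scheme.Hom.comp_apply, Scheme.Hom.comp_apply]
      exact congrArg _ (Subsingleton.elim _ _)
    haveI : Smooth T.hom := TorusNorm25.smooth_of_isTorus hT
    exact Chev24.isIso_hom_of_subsingleton T
  obtain ⟨m, hm⟩ := Chev24.exists_nat_dim (k := k) H₀
  have hm0 : m ≠ 0 := fun h => by
    rw [hdim] at hm
    rw [hm, h] at hHdim
    exact lt_irrefl _ hHdim
  obtain ⟨u, hu₁, hu₂⟩ := exists_Ga_hom m H₀ (Flag27.isSolvable_points (UnipFix19.isSolvableGrp_of_comm H₀)) hnt hm hm0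
  haveI := hu₁; haveI := hu₂
  haveI : LocallyOfFiniteType (Red.Ga S₀).hom := RankCell14.lft_Ga _
  haveI : QuasiCompact (Red.Ga S₀).hom := by
    haveI : IsAffine Red.GaZ.{u}.left := inferInstanceAs (IsAffine (Spec (CommRingCat.of _)))
    haveI : IsAffineHom Red.GaZ.{u}.hom := isAffineHom_of_isAffine _
    exact MorphismProperty.pullback_snd _ _ (inferInstanceAs (QuasiCompact Red.GaZ.{u}.hom))
  haveI : IsClosedImmersion u.left := AlgGrp14.isClosedImmersion_of_mono u
  exact hga (u ≫ v) inferInstance (inferInstanceAs (IsClosedImmersion (u.left ≫ v.left)))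

/-- Power maps of a connected smooth commutative group without additive subgroups are surjective. -/
theorem surjective_pow {n : ℕ} (hn : n ≠ 0) (G : Over (Spec (CommRingCat.of k))) [GrpObj G] [IsCommMonObj G]
    [Smooth G.hom] [QuasiCompact G.hom] [ConnectedSpace G.left]
    (hga : ∀ u : Red.Ga S₀ ⟶ G, IsMonHom u → IsClosedImmersion u.left → False) :
    Surjective ((𝟙 G : G ⟶ G) ^ n).left := by
  haveI : IsIntegral G.left := Euler.isIntegral_of_smooth_connected k G.hom
  haveI : IsSeparated G.hom := GrpSchField.isSeparated G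
  let f : G ⟶ G := 𝟙 G ^ n
  haveI hf : IsMonHom f := GrpDeligne.isMonHom_pow (𝟙 G) n
  haveI : QuasiCompact f.left := by
    haveI : QuasiCompact (f.left ≫ G.hom) := by rw [Over.w f]; infer_instance
    exact QuasiCompact.of_comp f.left G.hom
  let K := pullback f η[G]
  let iK : K ⟶ G := pullback.fst f η[G]
  have hK : AlgGrp.IsKernel iK f := by
    show IsPullback _ _ _ _
    rw [Subsingleton.elim (toUnit _) (pullback.snd f η[G])]
    exact IsPullback.of_hasPullback f η[G]
  obtain ⟨_, _⟩ := GrpDeligne.exists_grpObj_kernel f iK hK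
  have hsqK := (IsPullback.of_hasPullback f η[G]).map (Over.forget _)
  haveI := GrothLib.GrpSchField.unit_isClosedImmersion G
  haveI : IsClosedImmersion iK.left :=
    MorphismProperty.of_isPullback hsqK.flip (inferInstanceAs (IsClosedImmersion η[G].left))
  haveI : LocallyOfFiniteType K.hom := by rw [← Over.w iK]; infer_instance
  haveI : QuasiCompact K.hom := by rw [← Over.w iK]; infer_instance
  obtain ⟨K₀, _, jK, hjK, hjKc, hKs, hKc, hKdim, -⟩ := Chev24.exists_redNeutral K
  haveI := hjK; haveI := hjKc; haveI := hKs; haveI := hKc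
  let j₀ : K₀ ⟶ G := jK ≫ iK
  haveI : IsClosedImmersion j₀.left := inferInstanceAs (IsClosedImmersion (jK.left ≫ iK.left))
  haveI : IsMonHom j₀ := inferInstanceAs (IsMonHom (jK ≫ iK))
  haveI : Mono j₀ := Over.mono_of_mono_left j₀
  haveI : QuasiCompact K₀.hom := by rw [← Over.w j₀]; infer_instance
  haveI : IsCommMonObj K₀ := AlgGrp14.isCommMonObj_of_mono j₀
  haveI : Subsingleton K₀.left := subsingleton_of_killed hn K₀ (fun u _ hu => by
      haveI := hu
      exact hga (u ≫ j₀) inferInstance (inferInstanceAs (IsClosedImmersion (u.left ≫ j₀.left)))) (by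
    refine (cancel_mono j₀).1 ?_
    rw [MonObj.one_comp, MonObj.pow_comp, Category.id_comp, show j₀ ^ n = j₀ ≫ f by
      rw [MonObj.comp_pow, Category.comp_id], Category.assoc, hK.w, ← Category.assoc, Hom.one_def]
    exact congrArg (· ≫ η[G]) (toUnit_unique _ _))
  have hk0 : topologicalKrullDim K₀.left ≤ 0 := Chev24.dim_le_zero_of_subsingleton
  have hdim := Neutral.dim_eq_add_field f
  have hKK : topologicalKrullDim ↥(pullback f.left η[G].left) = topologicalKrullDim K.left :=
    (IsHomeomorph.topologicalKrullDim_eq _ hsqK.isoPullback.hom.homeomorph.isHomeomorph).symm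
  rw [hKK, ← hKdim] at hdim
  obtain ⟨I, _, p, i, hp, hi, hpi, hps, -, -, hm, hI, -⟩ := Neutral.exists_factor_field f
  haveI := hi; haveI := hps; haveI := hm; haveI := hI
  haveI := (Neutral.isClosedImmersion_factor f hpi).1
  have hcl : IsClosed (Set.range f.left) := by
    rw [← hpi, Over.comp_left, Scheme.Hom.comp_base, TopCat.coe_comp, Set.range_comp, p.left.surjective.range_eq,
      Set.image_univ]
    exact i.left.isClosedEmbedding.isClosed_range
  obtain ⟨d, hd⟩ := Chev24.exists_nat_dim (k := k) G
  have hle : topologicalKrullDim G.left ≤ topologicalKrullDim (Set.range f.left) :=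
    hdim.le.trans ((add_le_add le_rfl hk0).trans_eq (add_zero _))
  have hle' : topologicalKrullDim (Set.range f.left) ≤ topologicalKrullDim G.left :=
    IsEmbedding.subtypeVal.topologicalKrullDim_le
  exact ⟨Set.range_eq_univ.1 (Dim.eq_univ_of_dim_le hcl hle (m := d) (le_antisymm hle' hle ▸ hd))⟩

end GrothLib.SplitRed1
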