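import Groth.Agent.Lib.Poincare.DualIsog
import Groth.Agent.Lib.Poincare.BidualField
import Groth.Agent.Lib.KerDiag14.Basic
import Groth.Prelude.Def_AgPol
import Groth.Prelude.Def_SGA7IX

/-!
# The dual of an abelian variety is proper
-/

set_option autoImplicit false
set_option linter.all false
set_option backward.isDefEq.respectTransparency false
set_option maxHeartbeats 1000000

universe u

open CategoryTheory CategoryTheory.Limits AlgebraicGeometry Opposite TopologicalSpace
open MonoidalCategory CartesianMonoidalCategory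
open GrothLib.Ample GrothLib.Cube
open scoped MonObj

noncomputable section

namespace GrothLib.SplitRed1.DualProper

open GrothLib

variable {k : Type u} [Field k] {A At : Over (Spec (CommRingCat.of k))} [GrpObj A] [GrpObj At]
  [IsProper A.hom] [GeometricallyIntegral A.hom] [Smooth A.hom] [IsSeparated At.hom] [LocallyOfFiniteType At.hom]
  {φ : ∀ T : Over (Spec (CommRingCat.of k)), PicF.Cl (PicF.XT A.hom T) → (T ⟶ At)}
  (hφ : AbDual.IsDualAV Scheme.fppfPrecoverage A At φ)

include hφ in
/-- **Every geometric point of the dual is the image of one of `A`.** -/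
theorem exists_pt_comp_psi {L : A.left.Modules} {x : Pic A.left} (hL : HasCls L x) (hA : CohB1.IsAmple L)
    {Ω : Type u} [Field Ω] [IsAlgClosed Ω] (σ : Spec (CommRingCat.of Ω) ⟶ Spec (CommRingCat.of k))
    (t : Over.mk σ ⟶ At) : ∃ z : Over.mk σ ⟶ A, z ≫ MumfordPoincare.psi φ x = t := by
  let P : Over (Spec (CommRingCat.of k)) := Over.mk σ
  obtain ⟨R, hR, hloc⟩ := hφ.relPic.locallySurjective P t
  obtain ⟨U, u, s, hu, hsu⟩ := DualIsog.exists_section_fppf hR
  obtain ⟨c, ⟨M, rfl, hMi, hM⟩, hc⟩ := hloc u hu
  let j : P ⟶ AbDual.ovr P u := Over.homMk s (by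
    show s ≫ u ≫ σ = σ
    rw [← Category.assoc, hsu]; exact Category.id_comp σ)
  have hj : j ≫ AbDual.ovrHom P u = 𝟙 P := Over.OverMorphism.ext hsu
  have hz := (Dual.pz_iff (hasCls_clsMod hMi)).1 ⟨M, rfl, hMi, hM⟩
  let y : Pic (A ⊗ P).left := pull (A ◁ j).left (clsMod hMi)
  have hy : Dual.PZ A P y := hz.pullT j
  have hdy : Dual.dphi φ P y = t := by
    rw [Dual.dphi_pull hφ hz j, ← Dual.dphi_eq (φ := φ) (hasCls_clsMod hMi), hc, ← Category.assoc, hj,
      Category.id_comp]
  -- read on the geometric fibre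
  let X := DegPoly.bc σ A
  letI : GrpObj X := Functor.grpObjObj
  haveI : IsProper X.hom := inferInstanceAs (IsProper (pullback.snd A.hom σ))
  haveI : GeometricallyIntegral X.hom := inferInstanceAs (GeometricallyIntegral (pullback.snd A.hom σ))
  haveI : IsAffineHom (pullback.fst A.hom σ) := MorphismProperty.pullback_fst _ _ inferInstance
  have hy' : HasCls (Dual.rep y) y := Dual.hasCls_rep y
  let e : X.left ⟶ pullback (PicF.XTproj A.hom P) (𝟙 (Spec (CommRingCat.of Ω))) :=
    pullback.lift (𝟙 _) (pullback.snd A.hom σ) (by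
      rw [Category.id_comp, Category.comp_id]; rfl)
  have halg : @Pic13.IsAlgEquivZero Ω _ X.left ⟨X.hom⟩ (Dual.rep y) := by
    refine Dual.isAlgEquivZero_of_isIso X.hom (pullback.snd _ _) e (pullback.lift_snd _ _ _)
      (hy'.pullback _) ?_ (hy (IsLocalRing.closedPoint Ω) Ω (𝟙 _) ?_)
    · rw [pull_comp, show e ≫ pullback.fst (PicF.XTproj A.hom P) (𝟙 (Spec (CommRingCat.of Ω))) = 𝟙 _ from
        pullback.lift_fst _ _ _]
      exact (congrArg (HasCls (Dual.rep y)) (pull_id y)).mpr hy'
    · ext w
      exact ⟨fun _ => Subsingleton.elim (α := PrimeSpectrum Ω) w _, fun _ => ⟨w, rfl⟩⟩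
  obtain ⟨a, ha⟩ := PicZeroPts.exists_eq_diff (A := X) (hL.pullback (pullback.fst A.hom σ))
    (Ample.isAmple_pullback_of_isAffineHom (pullback.fst A.hom σ) hA)
    ((PicZeroPts.isAlgEquivZero_iff (A := X) hy').1 halg)
  refine ⟨(DegPoly.ptsEquiv σ (A := A)).symm a, ?_⟩
  have h1 : KL.mc x ((DegPoly.ptsEquiv σ (A := A)).symm a) = y := by
    refine (Dual.mc_point σ x _).trans ?_
    unfold Dual.diffCls
    rw [(DegPoly.ptsEquiv σ (A := A)).apply_symm_apply]
    exact ha.symm
  have h2 := Dual.dphi_pull hφ (MumfordPoincare.pz_lam x) ((DegPoly.ptsEquiv σ (A := A)).symm a)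
  rw [MumfordPoincare.lam, KL.pull_mc, Category.comp_id, h1, hdy] at h2
  exact h2.symm

include hφ in
theorem surjective_psi {L : A.left.Modules} {x : Pic A.left} (hL : HasCls L x) (hA : CohB1.IsAmple L) :
    Surjective (MumfordPoincare.psi φ x).left := by
  refine ⟨fun y => ?_⟩
  let Ω := AlgebraicClosure (At.left.residueField y)
  let b : Spec (CommRingCat.of Ω) ⟶ Spec (At.left.residueField y) :=
    Spec.map (CommRingCat.ofHom (algebraMap (At.left.residueField y) Ω))
  obtain ⟨z, hz⟩ := exists_pt_comp_psi hφ hL hA ((b ≫ At.left.fromSpecResidueField y) ≫ At.hom)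
    (Over.homMk (b ≫ At.left.fromSpecResidueField y) rfl)
  refine ⟨z.left (IsLocalRing.closedPoint Ω), ?_⟩
  have h := congrArg (fun q : Over.mk ((b ≫ At.left.fromSpecResidueField y) ≫ At.hom) ⟶ At =>
    q.left (IsLocalRing.closedPoint Ω)) hz
  exact h.trans (Scheme.fromSpecResidueField_apply y (b (IsLocalRing.closedPoint Ω)))

include hφ in
/-- The dual of an abelian variety is an abelian variety. -/
theorem isProper_dual [Smooth At.hom] [QuasiCompact At.hom] : IsProper At.hom ∧ GeometricallyIntegral At.hom := by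
  obtain ⟨L, hA⟩ := exists_isAmple A
  haveI := surjective_psi hφ (hasCls_clsMod hA.1) hA
  let f := MumfordPoincare.psi φ (clsMod hA.1)
  haveI : Surjective f.left := ‹_›
  haveI : UniversallyClosed At.hom := by
    haveI : UniversallyClosed (f.left ≫ At.hom) := by rw [Over.w]; infer_instance
    exact UniversallyClosed.of_comp_surjective f.left At.hom
  haveI : IsProper At.hom := ⟨⟩
  refine ⟨inferInstance, ?_⟩
  haveI : IsIntegral A.left := GeometricallyIntegral.isIntegral_of_subsingleton A.hom
  haveI : ConnectedSpace At.left := f.left.surjective.connectedSpace f.left.continuous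
  haveI : GeometricallyConnected At.hom := Neutral.geometricallyConnected_of_point At.hom η[At].left (Over.w η[At])
  exact Dual.geometricallyIntegral_of_abScheme At

omit [IsSeparated At.hom] [LocallyOfFiniteType At.hom] [GeometricallyIntegral A.hom] in
/-- The homomorphism attached to an invertible module is the Mumford map of its class. -/
theorem eq_psi_of_isLambda {L : A.left.Modules} (hL : PicF.IsInvertible L) {lam : A ⟶ At}
    (h : AgPol.IsLambda A At φ L lam) : lam = MumfordPoincare.psi φ (clsMod hL) := by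
  obtain ⟨N, hNi, hN, rfl⟩ := h
  have hc := hasCls_clsMod hL
  have hNc : HasCls N (MumfordPoincare.lam (clsMod hL)) := by
    refine ⟨hNi, ?_⟩
    have h := (((hasCls_clsMod hNi).tensor (hc.pullback (fst A A).left)).tensor
      (hc.pullback (snd A A).left)).eq (hc.pullback μ[A].left) hN
    have hμ : μ[A] = fst A A * snd A A := by rw [Hom.mul_def]; simp
    rw [MumfordPoincare.lam, KL.mc_eq, Category.comp_id, ← hμ, ← h]
    group
  exact Dual.dphi_eq hNc

include hφ in
/-- A Mumford map with finite kernel is an isogeny of abelian varieties. -/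
theorem isogeny_of_finite_kernel [IsProper At.hom] [GeometricallyIntegral At.hom] [Smooth At.hom] (x : Pic A.left)
    (hfin : ∀ (N : Over (Spec (CommRingCat.of k))) (i : N ⟶ A),
      AlgGrp.IsKernel i (MumfordPoincare.psi φ x) → IsFinite N.hom) :
    IsMonHom (MumfordPoincare.psi φ x) ∧ SGA7.IsIsogenyOver (MumfordPoincare.psi φ x) := by
  set f := MumfordPoincare.psi φ x
  haveI : IsMonHom f := DualIsog.isMonHom_psi hφ x
  refine ⟨inferInstance, ?_, hfin⟩
  let i : pullback f η[At] ⟶ A := pullback.fst f η[At]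
  have hK : AlgGrp.IsKernel i f := by
    show IsPullback _ _ _ _
    rw [Subsingleton.elim (toUnit _) (pullback.snd f η[At])]
    exact IsPullback.of_hasPullback f η[At]
  obtain ⟨_, _⟩ := GrpDeligne.exists_grpObj_kernel f i hK
  haveI := hfin _ i hK
  haveI : IsProper f.left := by
    haveI : IsProper (f.left ≫ At.hom) := by rw [Over.w]; infer_instance
    exact IsProper.of_comp f.left At.hom
  haveI : LocallyQuasiFinite f.left := (KerDiag14.lqf_iff f i hK).2.1.2 inferInstance
  haveI : IsFinite f.left := (IsFinite.iff_isProper_and_locallyQuasiFinite _).2 ⟨inferInstance, inferInstance⟩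
  haveI : IsIntegral A.left := GeometricallyIntegral.isIntegral_of_subsingleton A.hom
  haveI : IsIntegral At.left := GeometricallyIntegral.isIntegral_of_subsingleton At.hom
  haveI : IsCommMonObj A := isCommMonObj_abVar
  obtain ⟨g, hg⟩ := AbTors.exists_dim A
  exact Bidual.surjective_of_finite_of_dim_eq f hg (DualIsog.dim_dual hφ hg)

end GrothLib.SplitRed1.DualProper
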