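import Groth.Agent.Lib.SplitRed1.Split
import Groth.Agent.Lib.Flag27.CentBC
import Groth.Agent.Lib.Chev24.PerfChev
import Groth.Agent.Lib.GITQuot.Orbit

/-!
# Absence of additive subgroups is stable under extensions of algebraically closed fields
-/

set_option autoImplicit false
set_option linter.all false
set_option backward.isDefEq.respectTransparency false
set_option maxHeartbeats 1000000

universe u

open CategoryTheory CategoryTheory.Limits MonoidalCategory CartesianMonoidalCategory MonObj GrpObj AlgebraicGeometry
open Topology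

noncomputable section

namespace GrothLib.SplitRed1

open GrothLib

attribute [-instance] Hom.commGroup Hom.commMonoid CommGrpObj.toIsCommMonObj

variable {k : Type u} [Field k] [IsAlgClosed k] {L : Type u} [Field L] [IsAlgClosed L]

/-- A connected commutative group without additive subgroups acquires none over a larger field. -/
theorem noGa_bc_connected (G : Over (Spec (CommRingCat.of k))) [GrpObj G] [IsCommMonObj G] [Smooth G.hom]
    [QuasiCompact G.hom] [ConnectedSpace G.left]
    (hga : ∀ u : Red.Ga (Spec (CommRingCat.of k)) ⟶ G, IsMonHom u → IsClosedImmersion u.left → False)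
    (q : Spec (CommRingCat.of L) ⟶ Spec (CommRingCat.of k))
    (v : Red.Ga (Spec (CommRingCat.of L)) ⟶ Red.bc q G) [IsMonHom v] : v = 1 := by
  haveI : IsSeparated G.hom := GrpSchField.isSeparated G
  obtain ⟨N, _, i, hi, hic, hNs, hNc, hNa, hNn, hmax⟩ := Chev24.exists_affPart (G := G)
  haveI := hi; haveI := hic; haveI := hNs; haveI := hNc; haveI := hNa
  haveI : Mono i := Over.mono_of_mono_left i
  haveI : IsCommMonObj N := AlgGrp14.isCommMonObj_of_mono i
  obtain ⟨Q, _, π, hπ, hQs, hQq, hqf, hqs, -, hker⟩ := Chev24.exists_quot i hNn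
  haveI := hπ; haveI := hQs; haveI := hQq; haveI := hqf; haveI := hqs
  haveI := Chev24.isProper_quotient i hmax π hker
  haveI : ConnectedSpace Q.left := π.left.surjective.connectedSpace π.left.continuous
  obtain ⟨D, _, U, _, p, s, u, r, hp, hs, hu, hsp, hDt, hDa, hDs, hDc, huc, hup, hur, hru, hUu, hUs, hUc⟩ :=
    Flag27.hasSplit_of_solvable (B := N) (Flag27.isSolvable_points (UnipFix19.isSolvableGrp_of_comm N))
  haveI := hp; haveI := hs; haveI := hu; haveI := hDa; haveI := hDs; haveI := hDc; haveI := huc; haveI := hUs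
  haveI := hUc
  haveI : IsAffine U.left := hUu.isAffine
  haveI : IsIntegral U.left := Euler.isIntegral_of_smooth_connected k U.hom
  haveI : IsAffineHom U.hom := isAffineHom_of_isAffine _
  haveI : Mono u := Over.mono_of_mono_left u
  obtain ⟨n, hn⟩ := Chev24.exists_nat_dim (k := k) U
  have hn0 : n = 0 := by
    by_contra hne
    obtain ⟨w, hw₁, hw⟩ := exists_Ga_hom n U hUu.isSolvable_points hUu.hasNoSubtorus hn hne
    haveI := hw₁; haveI := hw
    haveI : LocallyOfFiniteType (Red.Ga (Spec (CommRingCat.of k))).hom := RankCell14.lft_Ga _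
    haveI : QuasiCompact (Red.Ga (Spec (CommRingCat.of k))).hom := by
      haveI : IsAffine Red.GaZ.{u}.left := inferInstanceAs (IsAffine (Spec (CommRingCat.of _)))
      haveI : IsAffineHom Red.GaZ.{u}.hom := isAffineHom_of_isAffine _
      exact MorphismProperty.pullback_snd _ _ (inferInstanceAs (QuasiCompact Red.GaZ.{u}.hom))
    haveI : IsClosedImmersion w.left := AlgGrp14.isClosedImmersion_of_mono w
    exact hga (w ≫ u ≫ i) inferInstance
      (inferInstanceAs (IsClosedImmersion (w.left ≫ u.left ≫ i.left)))
  haveI : Subsingleton U.left := by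
    have h := GrothLib.Dim.subsingleton_of_dim_eq_zero (S := (Set.univ : Set U.left)) isClosed_univ
      (IrreducibleSpace.isIrreducible_univ _)
      (((Homeomorph.Set.univ U.left).isHomeomorph.topologicalKrullDim_eq _).le.trans (by rw [hn, hn0]; exact_mod_cast le_rfl))
    exact Set.subsingleton_univ_iff.1 h
  haveI := Chev24.isIso_hom_of_subsingleton U
  have hU1 : 𝟙 U = 1 := Over.OverMorphism.ext ((cancel_mono U.hom).1 (by rw [Over.w, Over.w]))
  have hid : p ≫ s = 𝟙 N := by
    have h : r ≫ u = 1 := by rw [← Category.comp_id r, hU1, MonObj.comp_one, MonObj.one_comp]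
    rw [h] at hru
    exact (mul_inv_eq_one.1 hru.symm).symm
  -- over the larger field
  let P := Over.pullback q
  haveI : IsProper (P.obj Q).hom := MorphismProperty.pullback_snd Q.hom q ‹IsProper Q.hom›
  haveI : Smooth (P.obj Q).hom := MorphismProperty.pullback_snd Q.hom q ‹Smooth Q.hom›
  haveI : ConnectedSpace (P.obj Q).left := by
    haveI : GeometricallyConnected Q.hom := Neutral.geometricallyConnected_of_point Q.hom η[Q].left (Over.w η[Q])
    exact GeometricallyConnected.geometrically_connectedSpace (f := Q.hom) q _ _ (IsPullback.of_hasPullback Q.hom q)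
  obtain ⟨c, hc⟩ := SemiAb16.const_Ga_proper (v ≫ P.map π)
  have hc1 : c = 1 := by
    have h : η[Red.Ga (Spec (CommRingCat.of L))] ≫ v ≫ P.map π = η[P.obj Q] := IsMonHom.one_hom (v ≫ P.map π)
    rw [hc, ← Category.assoc, toUnit_unique (η[Red.Ga (Spec (CommRingCat.of L))] ≫ toUnit _) (𝟙 _), Category.id_comp] at h
    rw [h, MonObj.one_eq_one]
  obtain ⟨l, hl⟩ := GrpSchField.exists_lift_of_comp_eq_one (Chev24.isKernel_bc q i π hker) v (by
    rw [hc, hc1, MonObj.comp_one])
  haveI : Mono (P.map i) := inferInstance
  haveI hlm : IsMonHom l :=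
    ⟨by rw [← cancel_mono (P.map i), Category.assoc, hl, IsMonHom.one_hom (f := P.map i), IsMonHom.one_hom],
      by rw [← cancel_mono (P.map i), Category.assoc, hl, IsMonHom.mul_hom, Category.assoc,
        IsMonHom.mul_hom (f := P.map i), ← Category.assoc, tensorHom_comp_tensorHom, hl]⟩
  have hD : l ≫ P.map p = 1 := SemiAb16.pointed_Ga_torus (Flag27.isTorus_bc_field q hDt) _ (IsMonHom.one_hom (l ≫ P.map p))
  have hl1 : l = 1 := by
    rw [← Category.comp_id l, ← P.map_id, ← hid, P.map_comp, ← Category.assoc, hD, MonObj.one_comp]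
  rw [← hl, hl1, MonObj.one_comp]

/-- A smooth commutative group without additive subgroups acquires none over a larger field. -/
theorem noGa_bc (G : Over (Spec (CommRingCat.of k))) [GrpObj G] [IsCommMonObj G] [Smooth G.hom] [QuasiCompact G.hom]
    (hga : ∀ u : Red.Ga (Spec (CommRingCat.of k)) ⟶ G, IsMonHom u → IsClosedImmersion u.left → False)
    (q : Spec (CommRingCat.of L) ⟶ Spec (CommRingCat.of k))
    (v : Red.Ga (Spec (CommRingCat.of L)) ⟶ Red.bc q G) (hv : IsMonHom v) (hvc : IsClosedImmersion v.left) : False := by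
  haveI := hv; haveI := hvc
  haveI : IsSeparated G.hom := GrpSchField.isSeparated G
  obtain ⟨G₀, _, j, hjm, hjo, hrange, hsm, hqc⟩ := GrothLib.Neutral.exists_neutralPart G
  haveI := hjm; haveI := hjo; haveI := hsm; haveI := hqc
  rw [GrothLib.Induce27.neutralSet_eq G (IsLocalRing.closedPoint k)] at hrange
  haveI hconn : ConnectedSpace G₀.left := by
    have hc : _root_.IsConnected (Set.range j.left.base) := hrange ▸ isConnected_connectedComponent
    haveI : ConnectedSpace (Set.range j.left.base) := Subtype.connectedSpace hc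
    exact j.left.isOpenEmbedding.toIsEmbedding.toHomeomorph.symm.surjective.connectedSpace
      j.left.isOpenEmbedding.toIsEmbedding.toHomeomorph.symm.continuous
  haveI : Mono j := Over.mono_of_mono_left j
  haveI : IsCommMonObj G₀ := AlgGrp14.isCommMonObj_of_mono j
  haveI : IsClosedImmersion j.left :=
    IsClosedImmersion.of_isPreimmersion _ (hrange ▸ isClosed_connectedComponent)
  let P := Over.pullback q
  have sq := isPullback_map q j
  haveI : IsOpenImmersion (P.map j).left := MorphismProperty.of_isPullback sq hjo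
  have hpre := GITQuot.range_eq_preimage sq.flip
  haveI := SemiAb16.connectedSpace_Ga (k := L)
  have hsub : Set.range v.left ⊆ Set.range (P.map j).left := by
    intro z hz
    refine hpre.ge (show (pullback.fst G.hom q) z ∈ Set.range j.left from hrange.ge
      (((isConnected_range v.left.continuous).image _ (pullback.fst G.hom q).continuous.continuousOn).subset_connectedComponent
        ?_ ⟨z, hz, rfl⟩))
    refine ⟨η[Red.bc q G].left (IsLocalRing.closedPoint L), ⟨η[Red.Ga (Spec (CommRingCat.of L))].left (IsLocalRing.closedPoint L), ?_⟩, ?_⟩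
    · rw [← Scheme.Hom.comp_apply, ← Over.comp_left, IsMonHom.one_hom]
    · refine Eq.trans (congr($(Neutral.unit_fst G q) (IsLocalRing.closedPoint L))) ?_
      haveI : Subsingleton ↥(𝟙_ (Over (Spec (CommRingCat.of k)))).left := inferInstanceAs (Subsingleton (PrimeSpectrum k))
      rw [Scheme.Hom.comp_apply]
      exact congrArg _ (Subsingleton.elim _ _)
  let l : Red.Ga (Spec (CommRingCat.of L)) ⟶ Red.bc q G₀ :=
    Over.homMk (IsOpenImmersion.lift (P.map j).left v.left hsub) (by
      rw [← Over.w (P.map j), ← Category.assoc, IsOpenImmersion.lift_fac]; exact Over.w v)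
  have hl : l ≫ P.map j = v := Over.OverMorphism.ext (IsOpenImmersion.lift_fac _ _ _)
  haveI : Mono (P.map j) := inferInstance
  haveI : IsMonHom l :=
    ⟨by rw [← cancel_mono (P.map j), Category.assoc, hl, IsMonHom.one_hom (f := P.map j), IsMonHom.one_hom],
      by rw [← cancel_mono (P.map j), Category.assoc, hl, IsMonHom.mul_hom, Category.assoc,
        IsMonHom.mul_hom (f := P.map j), ← Category.assoc, tensorHom_comp_tensorHom, hl]⟩
  have hl1 := noGa_bc_connected G₀ (fun w _ hw => by
    haveI := hw
    exact hga (w ≫ j) inferInstance (inferInstanceAs (IsClosedImmersion (w.left ≫ j.left)))) q l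
  rw [hl1, MonObj.one_comp] at hl
  haveI : Mono v := Over.mono_of_mono_left v
  exact SemiAb16.mono_Ga_not_const v η[Red.bc q G] (by rw [← hl, ← Hom.one_def])

end GrothLib.SplitRed1
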