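import Groth.Agent.Lib.SplitRed1.NoTorsion
import Groth.Agent.Lib.NeronSH24.Glue
import Groth.Agent.Lib.Birat.LqfSep
import Groth.Agent.Lib.RegLoc.Normal

/-!
# Homomorphisms injective on the generic fibre from groups without additive subgroups
-/

set_option autoImplicit false
set_option linter.all false
set_option backward.isDefEq.respectTransparency false
set_option maxHeartbeats 1000000

universe u

open CategoryTheory CategoryTheory.Limits MonoidalCategory CartesianMonoidalCategory MonObj GrpObj AlgebraicGeometry
open Topology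

noncomputable section

namespace GrothLib.SplitRed1

open GrothLib

/-- The kernel of a geometric fibre of a generically injective homomorphism is finite. -/
theorem lqf_geomFibre {S : Scheme.{u}} {G H : Over S} [GrpObj G] [GrpObj H] [IsCommMonObj G] [IsCommMonObj H]
    [Smooth G.hom] [Smooth H.hom] [IsSeparated G.hom] [IsSeparated H.hom] [QuasiCompact G.hom]
    (u : G ⟶ H) [IsMonHom u] (t : S) (ht : ∀ s : S, t ⤳ s)
    (hgen : ∀ g : G.left, G.hom g = t → u.left g = η[H].left t → g = η[G].left t)
    {L : Type u} [Field L] [IsAlgClosed L] (c : Spec (CommRingCat.of L) ⟶ S)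
    (hga : ∀ v : Red.Ga (Spec (CommRingCat.of L)) ⟶ Red.bc c G, IsMonHom v → IsClosedImmersion v.left → False) :
    LocallyQuasiFinite ((Over.pullback c).map u).left := by
  let Gc := Red.bc c G
  let Hc := Red.bc c H
  let ψ : Gc ⟶ Hc := (Over.pullback c).map u
  haveI : Smooth Gc.hom := MorphismProperty.pullback_snd G.hom c ‹Smooth G.hom›
  haveI : QuasiCompact Gc.hom := MorphismProperty.pullback_snd G.hom c ‹QuasiCompact G.hom›
  haveI : IsSeparated Hc.hom := MorphismProperty.pullback_snd H.hom c ‹IsSeparated H.hom›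
  haveI : LocallyOfFiniteType Hc.hom :=
    haveI : Smooth Hc.hom := MorphismProperty.pullback_snd H.hom c ‹Smooth H.hom›
    inferInstance
  haveI : IsCommMonObj Gc := Functor.isCommMonObj_obj
  haveI : IsMonHom ψ := inferInstanceAs (IsMonHom ((Over.pullback c).map u))
  haveI : QuasiCompact ψ.left := by
    haveI : QuasiCompact (ψ.left ≫ Hc.hom) := by rw [Over.w ψ]; infer_instance
    exact QuasiCompact.of_comp ψ.left Hc.hom
  let K := pullback ψ η[Hc]
  let iK : K ⟶ Gc := pullback.fst ψ η[Hc]
  have hK : AlgGrp.IsKernel iK ψ := by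
    show IsPullback _ _ _ _
    rw [Subsingleton.elim (toUnit _) (pullback.snd ψ η[Hc])]
    exact IsPullback.of_hasPullback ψ η[Hc]
  obtain ⟨_, _⟩ := GrpDeligne.exists_grpObj_kernel ψ iK hK
  have hsqK := (IsPullback.of_hasPullback ψ η[Hc]).map (Over.forget _)
  haveI := GrothLib.GrpSchField.unit_isClosedImmersion Hc
  haveI : IsClosedImmersion iK.left :=
    MorphismProperty.of_isPullback hsqK.flip (inferInstanceAs (IsClosedImmersion η[Hc].left))
  haveI : LocallyOfFiniteType K.hom := by rw [← Over.w iK]; infer_instance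
  haveI : QuasiCompact K.hom := by rw [← Over.w iK]; infer_instance
  obtain ⟨R, _, jK, hjK, hjKc, hRs, hRc, hRdim, -⟩ := Chev24.exists_redNeutral K
  haveI := hjK; haveI := hjKc; haveI := hRs; haveI := hRc
  let r : R ⟶ Gc := jK ≫ iK
  haveI : IsClosedImmersion r.left := inferInstanceAs (IsClosedImmersion (jK.left ≫ iK.left))
  haveI : IsMonHom r := inferInstanceAs (IsMonHom (jK ≫ iK))
  haveI : Mono r := Over.mono_of_mono_left r
  haveI : QuasiCompact R.hom := by rw [← Over.w r]; infer_instance
  haveI : IsCommMonObj R := AlgGrp14.isCommMonObj_of_mono r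
  have hrψ : r ≫ ψ = 1 := by
    rw [Category.assoc, hK.w, ← Category.assoc, Hom.one_def]
    exact congrArg (· ≫ η[Hc]) (toUnit_unique _ _)
  haveI : Subsingleton R.left := by
    refine subsingleton_of_noTorsion R (fun v _ hv => by
      haveI := hv
      exact hga (v ≫ r) inferInstance (inferInstanceAs (IsClosedImmersion (v.left ≫ r.left)))) ?_
    intro ℓ hℓ Y x hx
    let f : Γ(S, ⊤) := ((ℓ : ℤ) : Γ(S, ⊤))
    let U : S.Opens := S.basicOpen f
    have hcU : c ⁻¹ᵁ U = ⊤ := by
      rw [Scheme.preimage_basicOpen_top]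
      refine Scheme.basicOpen_of_isUnit _ ?_
      show IsUnit (c.appTop ((ℓ : ℤ) : Γ(S, ⊤)))
      rw [map_intCast]
      have h0 : IsUnit ((ℓ : ℤ) : CommRingCat.of L) := by
        rw [Int.cast_natCast]; exact isUnit_iff_ne_zero.2 hℓ
      have := h0.map (Scheme.ΓSpecIso (CommRingCat.of L)).inv.hom
      rwa [map_intCast] at this
    let c' : Spec (CommRingCat.of L) ⟶ (U : Scheme.{u}) := IsOpenImmersion.lift U.ι c (by
      rintro _ ⟨p, rfl⟩
      rw [Scheme.Opens.range_ι]
      exact (hcU ▸ trivial : p ∈ c ⁻¹ᵁ U))
    have hc' : c' ≫ U.ι = c := IsOpenImmersion.lift_fac _ _ _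
    have htU : t ∈ U := (ht _).mem_open U.2 (hcU ▸ trivial : IsLocalRing.closedPoint L ∈ c ⁻¹ᵁ U)
    have hfU : IsUnit ((ℓ : ℤ) : Γ((U : Scheme.{u}), ⊤)) := by
      have h1 : IsUnit (S.presheaf.map (homOfLE (le_top : U ≤ ⊤)).op f) :=
        RingedSpace.isUnit_res_basicOpen (X := S.toLocallyRingedSpace.toRingedSpace) f
      rw [map_intCast] at h1
      have h2 := h1.map U.topIso.inv.hom
      rwa [map_intCast] at h2
    let G' := Red.bc U.ι G
    let H' := Red.bc U.ι H
    let u' : G' ⟶ H' := (Over.pullback U.ι).map u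
    haveI : Smooth G'.hom := MorphismProperty.pullback_snd G.hom U.ι ‹Smooth G.hom›
    haveI : Smooth H'.hom := MorphismProperty.pullback_snd H.hom U.ι ‹Smooth H.hom›
    haveI : IsSeparated G'.hom := MorphismProperty.pullback_snd G.hom U.ι ‹IsSeparated G.hom›
    haveI : IsSeparated H'.hom := MorphismProperty.pullback_snd H.hom U.ι ‹IsSeparated H.hom›
    haveI : IsCommMonObj G' := Functor.isCommMonObj_obj
    haveI : IsCommMonObj H' := Functor.isCommMonObj_obj
    haveI : IsMonHom u' := inferInstanceAs (IsMonHom ((Over.pullback U.ι).map u))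
    -- the point
    let ξ : (Over.map c).obj Y ⟶ G := (DiagGrp.bcPointMulEquiv c G Y).symm (x ≫ r)
    have hξ : ξ ^ ℓ = 1 := by
      rw [← map_pow, ← MonObj.pow_comp, hx, MonObj.one_comp, map_one]
    have hξu : ξ ≫ u = 1 := by
      apply (DiagGrp.bcPointMulEquiv c H Y).injective
      rw [map_one]
      show DiagGrp.bcPoint c H Y (ξ ≫ u) = 1
      rw [DiagGrp.bcPoint_comp_right,
        show DiagGrp.bcPoint c G Y ξ = x ≫ r from (DiagGrp.bcPointMulEquiv c G Y).apply_symm_apply _,
        Category.assoc]
      show x ≫ r ≫ ψ = 1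
      rw [hrψ, MonObj.comp_one]
    let Y' : Over (U : Scheme.{u}) := Over.mk (Y.hom ≫ c')
    let i : (Over.map U.ι).obj Y' ⟶ (Over.map c).obj Y := Over.homMk (𝟙 Y.left) (by
      show 𝟙 _ ≫ Y.hom ≫ c = (Y.hom ≫ c') ≫ U.ι
      rw [Category.id_comp, Category.assoc, hc'])
    let ξ' : Y' ⟶ G' := DiagGrp.bcPointMulEquiv U.ι G Y' (i ≫ ξ)
    have hξ' : ξ' ^ ℓ = 1 := by
      rw [← map_pow, ← MonObj.comp_pow, hξ, MonObj.comp_one, map_one]
    have hξu' : ξ' ≫ u' = 1 := by
      show DiagGrp.bcPoint U.ι G Y' (i ≫ ξ) ≫ (Over.pullback U.ι).map u = 1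
      rw [← DiagGrp.bcPoint_comp_right, Category.assoc, hξu, MonObj.comp_one]
      exact map_one (DiagGrp.bcPointMulEquiv U.ι H Y')
    have hgen' : ∀ g : G'.left, G'.hom g = (⟨t, htU⟩ : U) → u'.left g = η[H'].left ⟨t, htU⟩ →
        g = η[G'].left ⟨t, htU⟩ := by
      intro g hg hgu
      have hbase : ∀ (X : Over S) [GrpObj X] (p : ↥(U : Scheme.{u})),
          pullback.fst X.hom U.ι (η[Red.bc U.ι X].left p) = η[X].left (U.ι p) := fun X _ p => by
        exact congr($(Neutral.unit_fst X U.ι) p)
      refine (pullback.fst G.hom U.ι).isOpenEmbedding.injective ?_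
      rw [hbase G]
      refine hgen _ ?_ ?_
      · rw [← Scheme.Hom.comp_apply, pullback.condition, Scheme.Hom.comp_apply]
        exact congrArg (fun p : U => p.1) hg
      · refine Eq.trans ?_ (hbase H ⟨t, htU⟩)
        refine Eq.trans ?_ (congrArg (pullback.fst H.hom U.ι) hgu)
        exact congr($((isPullback_map U.ι u).w) g)
    have hz := torsion_eq_one u' ℓ hfU (⟨t, htU⟩ : U) (fun s => (U.ι.isOpenEmbedding.isInducing.specializes_iff).1 (ht s.1))
      hgen' ξ' hξ' hξu'
    have hiξ : i ≫ ξ = 1 := (DiagGrp.bcPointMulEquiv U.ι G Y').injective (hz.trans (map_one _).symm)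
    have hξ1 : ξ = 1 := by
      refine Over.OverMorphism.ext ?_
      have h : (i ≫ ξ).left = (1 : (Over.map U.ι).obj Y' ⟶ G).left := by rw [hiξ]
      have h' : ξ.left = (1 : (Over.map U.ι).obj Y' ⟶ G).left := by
        rw [← h, Over.comp_left]
        exact (Category.id_comp _).symm
      rw [h', Hom.one_def, Hom.one_def, Over.comp_left, Over.comp_left]
      congr 1
      show Y'.hom ≫ U.ι = Y.hom ≫ c
      rw [show Y'.hom = Y.hom ≫ c' from rfl, Category.assoc, hc']
    refine (cancel_mono r).1 ?_
    rw [MonObj.one_comp]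
    exact (DiagGrp.bcPointMulEquiv c G Y).symm.injective (hξ1.trans (map_one _).symm)
  have h0 : topologicalKrullDim K.left ≤ 0 := hRdim ▸ Chev24.dim_le_zero_of_subsingleton
  haveI : IsFinite K.hom := Chev24.isFinite_of_dim_zero K h0
  refine Neutral.locallyQuasiFinite_of_kernel ψ ?_
  let e := hsqK.isoPullback.hom.homeomorph
  haveI : DiscreteTopology K.left := by
    refine discreteTopology_iff_isOpen_singleton.mpr fun z => ?_
    have huniv : K.hom ⁻¹' {IsLocalRing.closedPoint L} = Set.univ :=
      Set.eq_univ_of_forall fun x => Subsingleton.elim (α := PrimeSpectrum L) _ _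
    haveI : DiscreteTopology ↥(K.hom ⁻¹' {IsLocalRing.closedPoint L}) :=
      (K.hom.isDiscrete_preimage_singleton _).to_subtype
    have h2 : IsOpen (Subtype.val ⁻¹' {z} : Set ↥(K.hom ⁻¹' {IsLocalRing.closedPoint L})) := isOpen_discrete _
    have h3 := (huniv ▸ isOpen_univ : IsOpen (K.hom ⁻¹' {IsLocalRing.closedPoint L})).isOpenMap_subtype_val _ h2
    rwa [Set.image_preimage_eq_inter_range, Subtype.range_val, huniv, Set.inter_univ] at h3
  haveI : DiscreteTopology ↥((Over.forget (Spec (CommRingCat.of L))).obj (pullback ψ η[Hc])) := ‹DiscreteTopology K.left›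
  exact e.symm.isEmbedding.discreteTopology

/-- A generically injective homomorphism from a group without additive subgroups is quasi-finite. -/
theorem lqf_of_generic_injective {S : Scheme.{u}} {G H : Over S} [GrpObj G] [GrpObj H] [IsCommMonObj G] [IsCommMonObj H]
    [Smooth G.hom] [Smooth H.hom] [IsSeparated G.hom] [IsSeparated H.hom] [QuasiCompact G.hom]
    (u : G ⟶ H) [IsMonHom u] (t : S) (ht : ∀ s : S, t ⤳ s)
    (hgen : ∀ g : G.left, G.hom g = t → u.left g = η[H].left t → g = η[G].left t)
    (hG : SGA7.FibresUnipotentRankZero G) : LocallyQuasiFinite u.left := by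
  haveI : QuasiCompact u.left := by
    haveI : QuasiCompact (u.left ≫ H.hom) := by rw [Over.w u]; infer_instance
    exact QuasiCompact.of_comp u.left H.hom
  haveI : LocallyOfFiniteType u.left := by
    have : LocallyOfFiniteType (u.left ≫ H.hom) := by rw [Over.w u]; infer_instance
    exact locallyOfFiniteType_of_comp u.left H.hom
  refine LocallyQuasiFinite.of_finite_preimage_singleton _ fun y => ?_
  obtain ⟨z, hz⟩ := exists_geom_point H y
  let c := Red.geomPt (H.hom y)
  let ψ := (Over.pullback c).map u
  have sq := isPullback_map c u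
  haveI : QuasiCompact ψ.left := MorphismProperty.of_isPullback sq ‹QuasiCompact u.left›
  haveI : LocallyQuasiFinite ψ.left :=
    lqf_geomFibre u t ht hgen c (fun v hv hvc => hG (H.hom y) v hv hvc)
  refine ((ψ.left.finite_preimage_singleton z).image (pullback.fst G.hom c)).subset fun x hx => ?_
  obtain ⟨w, hw₁, hw₂⟩ := GITQuot.exists_preimage_isPullback sq x z ((Set.mem_singleton_iff.1 hx).trans hz.symm)
  exact ⟨w, hw₂, hw₁⟩

theorem map_genericPoint {A B : Scheme.{u}} [IsIntegral A] [IsIntegral B] (f : A ⟶ B)
    (h : closure (Set.range f) = Set.univ) : f (genericPoint A) = genericPoint B := by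
  have h1 := (genericPoint_spec A).image f.continuous
  rw [Set.image_univ, h] at h1
  exact h1.eq (genericPoint_spec B)

/-- The generic fibre of a flat scheme over a domain is dense. -/
theorem closure_range_fst {R : Type u} [CommRing R] [IsDedekindDomain R] (K : Type u) [Field K] [Algebra R K]
    [IsFractionRing R K] (X : Over (Spec (CommRingCat.of R))) [Smooth X.hom] :
    closure (Set.range (pullback.fst X.hom (Spec.map (CommRingCat.ofHom (algebraMap R K))))) = Set.univ := by
  refine Set.eq_univ_of_forall fun x => ?_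
  obtain ⟨y, hy, hy'⟩ := Flat.generalizingMap X.hom
    (show ((⟨⊥, Ideal.isPrime_bot⟩ : PrimeSpectrum R) : Spec (CommRingCat.of R)) ⤳ X.hom x from
      (PrimeSpectrum.le_iff_specializes _ (X.hom x)).mp (bot_le (a := (X.hom x).asIdeal)))
  refine hy.mem_closed isClosed_closure (subset_closure ?_)
  rw [Scheme.Pullback.range_fst]
  exact ⟨(⟨⊥, Ideal.isPrime_bot⟩ : PrimeSpectrum K), hy'.symm ▸ PrimeSpectrum.ext
    (Ideal.comap_bot_of_injective _ (IsFractionRing.injective R K))⟩

/-- A scheme smooth over a Dedekind domain with irreducible generic fibre is integral. -/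
theorem isIntegral_of_genFib {R : Type u} [CommRing R] [IsDedekindDomain R] (K : Type u) [Field K] [Algebra R K]
    [IsFractionRing R K] (X : Over (Spec (CommRingCat.of R))) [Smooth X.hom]
    [IsIntegral ((SGA7.genFib R K).obj X).left] : IsIntegral X.left := by
  let j := Spec.map (CommRingCat.ofHom (algebraMap R K))
  let π := pullback.fst X.hom j
  haveI : IsLocallyNoetherian X.left := LocallyOfFiniteType.isLocallyNoetherian X.hom
  haveI : IsReduced X.left := GrothLib.WeilExt.isReduced_of_isRegular X.left
    (GrothLib.WeilExt.isRegularLocalRing_stalk_of_smooth X.hom (GrothLib.WeilExt.isRegularLocalRing_stalk_dedekind (R := R)))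
  haveI : IrreducibleSpace ↥(pullback X.hom j) :=
    inferInstanceAs (IrreducibleSpace ↥((SGA7.genFib R K).obj X).left)
  have hdense : closure (Set.range π) = Set.univ := closure_range_fst K X
  have hirr : IsIrreducible (Set.univ : Set X.left) := by
    rw [← hdense, ← Set.image_univ]
    exact ((IrreducibleSpace.isIrreducible_univ _).image _ π.continuous.continuousOn).closure
  haveI : IrreducibleSpace X.left := { isPreirreducible_univ := hirr.2, toNonempty := ⟨hirr.1.some⟩ }
  exact isIntegral_of_irreducibleSpace_of_isReduced X.left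

/-- A homomorphism of smooth groups over a Dedekind domain which is an isomorphism on generic fibres is an open
immersion when the source has no additive subgroups. -/
theorem isOpenImmersion_of_generic_iso {R : Type u} [CommRing R] [IsDedekindDomain R] (K : Type u) [Field K]
    [Algebra R K] [IsFractionRing R K] {G H : Over (Spec (CommRingCat.of R))} [GrpObj G] [GrpObj H] [IsCommMonObj G]
    [IsCommMonObj H] [Smooth G.hom] [Smooth H.hom] [IsSeparated G.hom] [IsSeparated H.hom] [QuasiCompact G.hom]
    [IsIntegral ((SGA7.genFib R K).obj H).left]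
    (u : G ⟶ H) [IsMonHom u] [IsIso ((SGA7.genFib R K).map u)] (hG : SGA7.FibresUnipotentRankZero G) :
    IsOpenImmersion u.left := by
  let j := Spec.map (CommRingCat.ofHom (algebraMap R K))
  let P := SGA7.genFib R K
  haveI : IsIso (P.map u).left := inferInstanceAs (IsIso ((Over.forget _).map (P.map u)))
  haveI : Nonempty ↥(P.obj G).left := ⟨(inv (P.map u).left) (genericPoint (P.obj H).left)⟩
  haveI hj : IsPreimmersion j := IsPreimmersion.of_isLocalization (R := R) (S := K) (nonZeroDivisors R)
  haveI : IsPreimmersion (pullback.fst H.hom j) := MorphismProperty.pullback_fst _ _ hj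
  haveI : IsIntegral (P.obj G).left := isIntegral_of_isOpenImmersion (P.map u).left
  haveI := isIntegral_of_genFib K G
  haveI := isIntegral_of_genFib K H
  let t : Spec (CommRingCat.of R) := (⟨⊥, Ideal.isPrime_bot⟩ : PrimeSpectrum R)
  have ht : ∀ s, t ⤳ s := fun s => (PrimeSpectrum.le_iff_specializes t s).mp (bot_le (a := s.asIdeal))
  have sq := isPullback_map j u
  let o : Spec (CommRingCat.of K) := (⟨⊥, Ideal.isPrime_bot⟩ : PrimeSpectrum K)
  have ho : j o = t := PrimeSpectrum.ext (Ideal.comap_bot_of_injective _ (IsFractionRing.injective R K))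
  have hgen : ∀ g : G.left, G.hom g = t → u.left g = η[H].left t → g = η[G].left t := by
    intro g hg hgu
    obtain ⟨z, hz, -⟩ := Scheme.Pullback.exists_preimage_pullback (f := G.hom) (g := j) g o (hg.trans ho.symm)
    have h1 : pullback.fst G.hom j (η[P.obj G].left o) = η[G].left t := by
      rw [← ho]; exact congr($(Neutral.unit_fst G j) o)
    have h2 : pullback.fst H.hom j (η[P.obj H].left o) = η[H].left t := by
      rw [← ho]; exact congr($(Neutral.unit_fst H j) o)
    have h3 : (P.map u).left z = η[P.obj H].left o := by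
      have hpre : IsPreimmersion (pullback.fst H.hom j) := inferInstance
      refine (pullback.fst H.hom j).isEmbedding.injective ?_
      rw [h2, ← hgu, ← hz]
      exact congr($(sq.w) z).symm
    have h4 : (P.map u).left (η[P.obj G].left o) = η[P.obj H].left o := by
      rw [← Scheme.Hom.comp_apply, ← Over.comp_left, IsMonHom.one_hom]
    rw [← hz, ← h1, (P.map u).left.isOpenEmbedding.injective (h3.trans h4.symm)]
  haveI := lqf_of_generic_injective u t ht hgen hG
  haveI : IsSeparated u.left := by
    haveI : IsSeparated (u.left ≫ H.hom) := by rw [Over.w u]; infer_instance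
    exact IsSeparated.of_comp u.left H.hom
  haveI : LocallyOfFiniteType u.left := by
    have : LocallyOfFiniteType (u.left ≫ H.hom) := by rw [Over.w u]; infer_instance
    exact locallyOfFiniteType_of_comp u.left H.hom
  have hN : ∀ y, IsIntegrallyClosed (H.left.presheaf.stalk y) := fun y => by
    haveI := GrothLib.WeilExt.isRegularLocalRing_stalk_of_smooth H.hom
      (GrothLib.WeilExt.isRegularLocalRing_stalk_dedekind (R := R)) y
    exact RegLoc.isIntegrallyClosed_of_isRegularLocalRing _
  let πG := pullback.fst G.hom j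
  let πH := pullback.fst H.hom j
  let ξ := genericPoint (P.obj G).left
  have e1 : πG ξ = genericPoint G.left := map_genericPoint (A := (P.obj G).left) πG (closure_range_fst K G)
  have e2 : u.left (genericPoint G.left) = genericPoint H.left := by
    rw [← e1, ← map_genericPoint (A := (P.obj H).left) πH (closure_range_fst K H),
      ← genericPoint_eq_of_isOpenImmersion (P.map u).left]
    exact congr($(sq.w) ξ)
  refine Birat.isOpenImmersion_of_lqf_birational u.left e2 ?_ hN
  rw [← e1]
  have hcomp : Function.Surjective ((πG ≫ u.left).stalkMap ξ).hom := by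
    rw [show πG ≫ u.left = (P.map u).left ≫ πH from sq.w, Scheme.Hom.stalkMap_comp, CommRingCat.hom_comp,
      RingHom.coe_comp]
    exact (ConcreteCategory.bijective_of_isIso ((P.map u).left.stalkMap ξ)).2.comp
      (πH.stalkMap_surjective _)
  rw [Scheme.Hom.stalkMap_comp, CommRingCat.hom_comp, RingHom.coe_comp] at hcomp
  haveI hfG : IsField (G.left.presheaf.stalk (πG ξ)) := by rw [e1]; exact Field.toIsField (G.left.functionField)
  letI := hfG.toField
  haveI hfH : IsField (H.left.presheaf.stalk (u.left (πG ξ))) := by rw [e1, e2]; exact Field.toIsField (H.left.functionField)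
  letI := hfH.toField
  refine ⟨(u.left.stalkMap (πG ξ)).hom.injective, Function.Surjective.of_comp_left hcomp ?_⟩
  exact (πG.stalkMap ξ).hom.injective

/-- A smooth separated group with commutative generic fibre is commutative. -/
theorem isCommMonObj_of_genFib {R : Type u} [CommRing R] [IsDedekindDomain R] (K : Type u) [Field K] [Algebra R K]
    [IsFractionRing R K] (G : Over (Spec (CommRingCat.of R))) [GrpObj G] [Smooth G.hom] [IsSeparated G.hom]
    [IsCommMonObj ((SGA7.genFib R K).obj G)] : IsCommMonObj G := by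
  haveI : Smooth (G ⊗ G).hom := by
    rw [← Over.w (fst G G)]
    haveI : Smooth (fst G G).left := inferInstanceAs (Smooth (pullback.fst G.hom G.hom))
    infer_instance
  have e : fst G G * snd G G = snd G G * fst G G := by
    apply Over.OverMorphism.ext
    refine GrothLib.NeronSH24.ext_of_genericFibre R G.hom (G ⊗ G).hom _ _ (Over.w _) (Over.w _) ?_
    have hK : (SGA7.genFib R K).map (fst G G * snd G G) = (SGA7.genFib R K).map (snd G G * fst G G) := by
      rw [Functor.map_mul, Functor.map_mul, _root_.mul_comm]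
    have h2 := congrArg (fun z => z.left ≫ pullback.fst G.hom _) hK
    simp only [Over.pullback_map_left, pullback.lift_fst] at h2
    let θ : Spec (CommRingCat.of (FractionRing R)) ⟶ Spec (CommRingCat.of K) :=
      Spec.map (CommRingCat.ofHom (FractionRing.algEquiv R K).symm.toAlgHom.toRingHom)
    have hθ : θ ≫ Spec.map (CommRingCat.ofHom (algebraMap R K)) =
        Spec.map (CommRingCat.ofHom (algebraMap R (FractionRing R))) := by
      rw [← Spec.map_comp, ← CommRingCat.ofHom_comp]
      congr 2
      ext x
      exact (FractionRing.algEquiv R K).symm.commutes x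
    have h3 := pullback.lift_fst (f := (G ⊗ G).hom) (g := Spec.map (CommRingCat.ofHom (algebraMap R K)))
      (pullback.fst (G ⊗ G).hom (Spec.map (CommRingCat.ofHom (algebraMap R (FractionRing R)))))
      (pullback.snd (G ⊗ G).hom _ ≫ θ) (by rw [Category.assoc, hθ]; exact pullback.condition)
    rw [← h3]
    simp only [Category.assoc]
    exact congrArg _ h2
  constructor
  have h1 : fst G G * snd G G = μ[G] := by rw [Hom.mul_def, lift_fst_snd, Category.id_comp]
  have h2 : (β_ G G).hom ≫ μ[G] = snd G G * fst G G := by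
    rw [← h1, MonObj.comp_mul]
    simp
  rw [h2, ← e, h1]

end GrothLib.SplitRed1
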