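import Groth.Agent.Lib.SplitRed1.TorPrime

/-!
# Homomorphisms with finite generic kernel from groups without additive subgroups
-/

set_option autoImplicit false
set_option linter.all false
set_option backward.isDefEq.respectTransparency false
set_option maxHeartbeats 1000000

universe u

open CategoryTheory CategoryTheory.Limits MonoidalCategory CartesianMonoidalCategory MonObj GrpObj AlgebraicGeometry
open Topology

noncomputable section

namespace GrothLib.SplitRed1

open GrothLib

/-- A morphism from the spectrum of a field hitting the unit section is trivial. -/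
theorem eq_one_of_apply_eq {S : Scheme.{u}} {H : Over S} [GrpObj H] [IsSeparated H.hom] {L : Type u} [Field L]
    (b : Spec (CommRingCat.of L) ⟶ S) (h : Over.mk b ⟶ H) (s : S)
    (hs : h.left (IsLocalRing.closedPoint L) = η[H].left s) : h = 1 := by
  haveI : IsClosedImmersion η[H].left := by
    haveI : IsClosedImmersion (η[H].left ≫ H.hom) := by
      rw [show η[H].left ≫ H.hom = 𝟙 _ from Over.w η[H]]; infer_instance
    exact IsClosedImmersion.of_comp η[H].left H.hom
  have sq := IsPullback.of_hasPullback h.left η[H].left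
  haveI : IsClosedImmersion (pullback.fst h.left η[H].left) :=
    MorphismProperty.pullback_fst _ _ ‹IsClosedImmersion η[H].left›
  obtain ⟨z, hz, -⟩ := Scheme.Pullback.exists_preimage_pullback (f := h.left) (g := η[H].left)
    (IsLocalRing.closedPoint L) s hs
  haveI : Surjective (pullback.fst h.left η[H].left) :=
    ⟨fun x => ⟨z, hz.trans (Subsingleton.elim (α := PrimeSpectrum L) _ _)⟩⟩
  haveI : IsReduced (Over.mk b).left := inferInstanceAs (IsReduced (Spec (CommRingCat.of L)))
  haveI : IsIso (pullback.fst h.left η[H].left) := isIso_of_isClosedImmersion_of_surjective _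
  have h2 : h.left = inv (pullback.fst h.left η[H].left) ≫ pullback.snd h.left η[H].left ≫ η[H].left := by
    rw [← pullback.condition, IsIso.inv_hom_id_assoc]
  have hH : η[H].left ≫ H.hom = 𝟙 _ := Over.w η[H]
  have hb : inv (pullback.fst h.left η[H].left) ≫ pullback.snd h.left η[H].left = b := by
    have h1 := Over.w h
    rw [h2, Category.assoc, Category.assoc, hH] at h1
    exact (congrArg _ (Category.comp_id _)).symm.trans h1
  refine Over.OverMorphism.ext ?_
  rw [h2, ← Category.assoc, hb, Hom.one_def, Over.comp_left]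
  rfl

/-- A torsion point killed by a homomorphism whose generic kernel has no such torsion is trivial. -/
theorem torsion_eq_one_pow {S : Scheme.{u}} {G H : Over S} [GrpObj G] [GrpObj H] [IsCommMonObj G] [IsCommMonObj H]
    [Smooth G.hom] [Smooth H.hom] [IsSeparated G.hom] [IsSeparated H.hom] (u : G ⟶ H) [IsMonHom u] (ℓ : ℕ)
    (hℓ : IsUnit ((ℓ : ℤ) : Γ(S, ⊤))) (t : S) (ht : ∀ s : S, t ⤳ s)
    (hgen : ∀ g : G.left, G.hom g = t → u.left g = η[H].left t → ((𝟙 G : G ⟶ G) ^ ℓ).left g = η[G].left t →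
      g = η[G].left t)
    {T : Over S} (x : T ⟶ G) (hx : x ^ ℓ = 1) (hxu : x ≫ u = 1) : x = 1 := by
  haveI : Smooth (H ⊗ G).hom := by
    rw [← Over.w (snd H G)]
    haveI : Smooth (snd H G).left := inferInstanceAs (Smooth (pullback.snd H.hom G.hom))
    infer_instance
  haveI : IsSeparated (H ⊗ G).hom := by
    rw [← Over.w (snd H G)]
    haveI : IsSeparated (snd H G).left := inferInstanceAs (IsSeparated (pullback.snd H.hom G.hom))
    infer_instance
  haveI : IsMonHom ((𝟙 G : G ⟶ G) ^ ℓ) := GrpDeligne.isMonHom_pow (𝟙 G) ℓ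
  refine torsion_eq_one (lift u ((𝟙 G : G ⟶ G) ^ ℓ)) ℓ hℓ t ht (fun g hg h => hgen g hg ?_ ?_) x hx ?_
  · have h' := congrArg (fst H G).left h
    rw [← Scheme.Hom.comp_apply, ← Over.comp_left, lift_fst, ← Scheme.Hom.comp_apply, ← Over.comp_left,
      IsMonHom.one_hom] at h'
    exact h'
  · have h' := congrArg (snd H G).left h
    rw [← Scheme.Hom.comp_apply, ← Over.comp_left, lift_snd, ← Scheme.Hom.comp_apply, ← Over.comp_left,
      IsMonHom.one_hom] at h'
    exact h'
  · apply CartesianMonoidalCategory.hom_ext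
    · rw [Category.assoc, lift_fst, hxu, MonObj.one_comp]
    · rw [Category.assoc, lift_snd, MonObj.comp_pow, Category.comp_id, hx, MonObj.one_comp]

/-- The kernel of a geometric fibre of a generically injective homomorphism is finite. -/
theorem lqf_geomFibre_prime {S : Scheme.{u}} {G H : Over S} [GrpObj G] [GrpObj H] [IsCommMonObj G] [IsCommMonObj H]
    [Smooth G.hom] [Smooth H.hom] [IsSeparated G.hom] [IsSeparated H.hom] [QuasiCompact G.hom]
    (u : G ⟶ H) [IsMonHom u] (t : S) (ht : ∀ s : S, t ⤳ s)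
    {L : Type u} [Field L] [IsAlgClosed L] (c : Spec (CommRingCat.of L) ⟶ S) {ℓ : ℕ} (hℓp : ℓ.Prime) (hℓ : (ℓ : L) ≠ 0)
    (hgen : ∀ g : G.left, G.hom g = t → u.left g = η[H].left t → ((𝟙 G : G ⟶ G) ^ ℓ).left g = η[G].left t →
      g = η[G].left t)
    (hga : ∀ v : Red.Ga (Spec (CommRingCat.of L)) ⟶ Red.bc c G, IsMonHom v → IsClosedImmersion v.left → False) :
    LocallyQuasiFinite ((Over.pullback c).map u).left := by
  let Gc := Red.bc c G
  let Hc := Red.bc c H
  let ψ : Gc ⟶ Hc := (Over.pullback c).map u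
  haveI : Smooth Gc.hom := MorphismProperty.pullback_snd G.hom c ‹Smooth G.hom›
  haveI : QuasiCompact Gc.hom := MorphismProperty.pullback_snd G.hom c ‹QuasiCompact G.hom›
  haveI : IsSeparated Hc.hom := MorphismProperty.pullback_snd H.hom c ‹IsSeparated H.hom›
  haveI : LocallyOfFiniteType Hc.hom :=
    haveI : Smooth Hc.hom := MorphismProperty.pullback_snd H.hom c ‹Smooth H.hom›
    inferInstance
  haveI : IsCommMonObj Gc := Functor.isCommMonObj_obj
  haveI : IsMonHom ψ := inferInstanceAs (IsMonHom ((Over.pullback c).map u))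
  haveI : QuasiCompact ψ.left := by
    haveI : QuasiCompact (ψ.left ≫ Hc.hom) := by rw [Over.w ψ]; infer_instance
    exact QuasiCompact.of_comp ψ.left Hc.hom
  let K := pullback ψ η[Hc]
  let iK : K ⟶ Gc := pullback.fst ψ η[Hc]
  have hK : AlgGrp.IsKernel iK ψ := by
    show IsPullback _ _ _ _
    rw [Subsingleton.elim (toUnit _) (pullback.snd ψ η[Hc])]
    exact IsPullback.of_hasPullback ψ η[Hc]
  obtain ⟨_, _⟩ := GrpDeligne.exists_grpObj_kernel ψ iK hK
  have hsqK := (IsPullback.of_hasPullback ψ η[Hc]).map (Over.forget _)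
  haveI := GrothLib.GrpSchField.unit_isClosedImmersion Hc
  haveI : IsClosedImmersion iK.left :=
    MorphismProperty.of_isPullback hsqK.flip (inferInstanceAs (IsClosedImmersion η[Hc].left))
  haveI : LocallyOfFiniteType K.hom := by rw [← Over.w iK]; infer_instance
  haveI : QuasiCompact K.hom := by rw [← Over.w iK]; infer_instance
  obtain ⟨R, _, jK, hjK, hjKc, hRs, hRc, hRdim, -⟩ := Chev24.exists_redNeutral K
  haveI := hjK; haveI := hjKc; haveI := hRs; haveI := hRc
  let r : R ⟶ Gc := jK ≫ iK
  haveI : IsClosedImmersion r.left := inferInstanceAs (IsClosedImmersion (jK.left ≫ iK.left))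
  haveI : IsMonHom r := inferInstanceAs (IsMonHom (jK ≫ iK))
  haveI : Mono r := Over.mono_of_mono_left r
  haveI : QuasiCompact R.hom := by rw [← Over.w r]; infer_instance
  haveI : IsCommMonObj R := AlgGrp14.isCommMonObj_of_mono r
  have hrψ : r ≫ ψ = 1 := by
    rw [Category.assoc, hK.w, ← Category.assoc, Hom.one_def]
    exact congrArg (· ≫ η[Hc]) (toUnit_unique _ _)
  haveI : Subsingleton R.left := by
    refine subsingleton_of_noTorsion_prime R (fun v _ hv => by
      haveI := hv
      exact hga (v ≫ r) inferInstance (inferInstanceAs (IsClosedImmersion (v.left ≫ r.left)))) hℓp hℓ ?_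
    intro Y x hx
    let f : Γ(S, ⊤) := ((ℓ : ℤ) : Γ(S, ⊤))
    let U : S.Opens := S.basicOpen f
    have hcU : c ⁻¹ᵁ U = ⊤ := by
      rw [Scheme.preimage_basicOpen_top]
      refine Scheme.basicOpen_of_isUnit _ ?_
      show IsUnit (c.appTop ((ℓ : ℤ) : Γ(S, ⊤)))
      rw [map_intCast]
      have h0 : IsUnit ((ℓ : ℤ) : CommRingCat.of L) := by
        rw [Int.cast_natCast]; exact isUnit_iff_ne_zero.2 hℓ
      have := h0.map (Scheme.ΓSpecIso (CommRingCat.of L)).inv.hom
      rwa [map_intCast] at this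
    let c' : Spec (CommRingCat.of L) ⟶ (U : Scheme.{u}) := IsOpenImmersion.lift U.ι c (by
      rintro _ ⟨p, rfl⟩
      rw [Scheme.Opens.range_ι]
      exact (hcU ▸ trivial : p ∈ c ⁻¹ᵁ U))
    have hc' : c' ≫ U.ι = c := IsOpenImmersion.lift_fac _ _ _
    have htU : t ∈ U := (ht _).mem_open U.2 (hcU ▸ trivial : IsLocalRing.closedPoint L ∈ c ⁻¹ᵁ U)
    have hfU : IsUnit ((ℓ : ℤ) : Γ((U : Scheme.{u}), ⊤)) := by
      have h1 : IsUnit (S.presheaf.map (homOfLE (le_top : U ≤ ⊤)).op f) :=
        RingedSpace.isUnit_res_basicOpen (X := S.toLocallyRingedSpace.toRingedSpace) f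
      rw [map_intCast] at h1
      have h2 := h1.map U.topIso.inv.hom
      rwa [map_intCast] at h2
    let G' := Red.bc U.ι G
    let H' := Red.bc U.ι H
    let u' : G' ⟶ H' := (Over.pullback U.ι).map u
    haveI : Smooth G'.hom := MorphismProperty.pullback_snd G.hom U.ι ‹Smooth G.hom›
    haveI : Smooth H'.hom := MorphismProperty.pullback_snd H.hom U.ι ‹Smooth H.hom›
    haveI : IsSeparated G'.hom := MorphismProperty.pullback_snd G.hom U.ι ‹IsSeparated G.hom›
    haveI : IsSeparated H'.hom := MorphismProperty.pullback_snd H.hom U.ι ‹IsSeparated H.hom›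
    haveI : IsCommMonObj G' := Functor.isCommMonObj_obj
    haveI : IsCommMonObj H' := Functor.isCommMonObj_obj
    haveI : IsMonHom u' := inferInstanceAs (IsMonHom ((Over.pullback U.ι).map u))
    -- the point
    let ξ : (Over.map c).obj Y ⟶ G := (DiagGrp.bcPointMulEquiv c G Y).symm (x ≫ r)
    have hξ : ξ ^ ℓ = 1 := by
      rw [← map_pow, ← MonObj.pow_comp, hx, MonObj.one_comp, map_one]
    have hξu : ξ ≫ u = 1 := by
      apply (DiagGrp.bcPointMulEquiv c H Y).injective
      rw [map_one]
      show DiagGrp.bcPoint c H Y (ξ ≫ u) = 1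
      rw [DiagGrp.bcPoint_comp_right,
        show DiagGrp.bcPoint c G Y ξ = x ≫ r from (DiagGrp.bcPointMulEquiv c G Y).apply_symm_apply _,
        Category.assoc]
      show x ≫ r ≫ ψ = 1
      rw [hrψ, MonObj.comp_one]
    let Y' : Over (U : Scheme.{u}) := Over.mk (Y.hom ≫ c')
    let i : (Over.map U.ι).obj Y' ⟶ (Over.map c).obj Y := Over.homMk (𝟙 Y.left) (by
      show 𝟙 _ ≫ Y.hom ≫ c = (Y.hom ≫ c') ≫ U.ι
      rw [Category.id_comp, Category.assoc, hc'])
    let ξ' : Y' ⟶ G' := DiagGrp.bcPointMulEquiv U.ι G Y' (i ≫ ξ)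
    have hξ' : ξ' ^ ℓ = 1 := by
      rw [← map_pow, ← MonObj.comp_pow, hξ, MonObj.comp_one, map_one]
    have hξu' : ξ' ≫ u' = 1 := by
      show DiagGrp.bcPoint U.ι G Y' (i ≫ ξ) ≫ (Over.pullback U.ι).map u = 1
      rw [← DiagGrp.bcPoint_comp_right, Category.assoc, hξu, MonObj.comp_one]
      exact map_one (DiagGrp.bcPointMulEquiv U.ι H Y')
    have hgen' : ∀ g : G'.left, G'.hom g = (⟨t, htU⟩ : U) → u'.left g = η[H'].left ⟨t, htU⟩ →
        ((𝟙 G' : G' ⟶ G') ^ ℓ).left g = η[G'].left ⟨t, htU⟩ → g = η[G'].left ⟨t, htU⟩ := by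
      intro g hg hgu hgp
      have hbase : ∀ (X : Over S) [GrpObj X] (p : ↥(U : Scheme.{u})),
          pullback.fst X.hom U.ι (η[Red.bc U.ι X].left p) = η[X].left (U.ι p) := fun X _ p => by
        exact congr($(Neutral.unit_fst X U.ι) p)
      refine (pullback.fst G.hom U.ι).isOpenEmbedding.injective ?_
      rw [hbase G]
      refine hgen _ ?_ ?_ ?_
      · rw [← Scheme.Hom.comp_apply, pullback.condition, Scheme.Hom.comp_apply]
        exact congrArg (fun p : U => p.1) hg
      · refine Eq.trans ?_ (hbase H ⟨t, htU⟩)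
        refine Eq.trans ?_ (congrArg (pullback.fst H.hom U.ι) hgu)
        exact congr($((isPullback_map U.ι u).w) g)
      · refine Eq.trans ?_ (hbase G ⟨t, htU⟩)
        refine Eq.trans ?_ (congrArg (pullback.fst G.hom U.ι) hgp)
        have hp : (Over.pullback U.ι).map ((𝟙 G : G ⟶ G) ^ ℓ) = (𝟙 G' : G' ⟶ G') ^ ℓ := by
          refine (map_pow (Over.pullback U.ι).homMonoidHom (𝟙 G) ℓ).trans ?_
          show ((Over.pullback U.ι).map (𝟙 G)) ^ ℓ = _
          rw [CategoryTheory.Functor.map_id]
        rw [← hp]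
        exact congr($((isPullback_map U.ι ((𝟙 G : G ⟶ G) ^ ℓ)).w) g)
    have hz := torsion_eq_one_pow u' ℓ hfU (⟨t, htU⟩ : U) (fun s => (U.ι.isOpenEmbedding.isInducing.specializes_iff).1 (ht s.1))
      hgen' ξ' hξ' hξu'
    have hiξ : i ≫ ξ = 1 := (DiagGrp.bcPointMulEquiv U.ι G Y').injective (hz.trans (map_one _).symm)
    have hξ1 : ξ = 1 := by
      refine Over.OverMorphism.ext ?_
      have h : (i ≫ ξ).left = (1 : (Over.map U.ι).obj Y' ⟶ G).left := by rw [hiξ]
      have h' : ξ.left = (1 : (Over.map U.ι).obj Y' ⟶ G).left := by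
        rw [← h, Over.comp_left]
        exact (Category.id_comp _).symm
      rw [h', Hom.one_def, Hom.one_def, Over.comp_left, Over.comp_left]
      congr 1
      show Y'.hom ≫ U.ι = Y.hom ≫ c
      rw [show Y'.hom = Y.hom ≫ c' from rfl, Category.assoc, hc']
    refine (cancel_mono r).1 ?_
    rw [MonObj.one_comp]
    exact (DiagGrp.bcPointMulEquiv c G Y).symm.injective (hξ1.trans (map_one _).symm)
  have h0 : topologicalKrullDim K.left ≤ 0 := hRdim ▸ Chev24.dim_le_zero_of_subsingleton
  haveI : IsFinite K.hom := Chev24.isFinite_of_dim_zero K h0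
  refine Neutral.locallyQuasiFinite_of_kernel ψ ?_
  let e := hsqK.isoPullback.hom.homeomorph
  haveI : DiscreteTopology K.left := by
    refine discreteTopology_iff_isOpen_singleton.mpr fun z => ?_
    have huniv : K.hom ⁻¹' {IsLocalRing.closedPoint L} = Set.univ :=
      Set.eq_univ_of_forall fun x => Subsingleton.elim (α := PrimeSpectrum L) _ _
    haveI : DiscreteTopology ↥(K.hom ⁻¹' {IsLocalRing.closedPoint L}) :=
      (K.hom.isDiscrete_preimage_singleton _).to_subtype
    have h2 : IsOpen (Subtype.val ⁻¹' {z} : Set ↥(K.hom ⁻¹' {IsLocalRing.closedPoint L})) := isOpen_discrete _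
    have h3 := (huniv ▸ isOpen_univ : IsOpen (K.hom ⁻¹' {IsLocalRing.closedPoint L})).isOpenMap_subtype_val _ h2
    rwa [Set.image_preimage_eq_inter_range, Subtype.range_val, huniv, Set.inter_univ] at h3
  haveI : DiscreteTopology ↥((Over.forget (Spec (CommRingCat.of L))).obj (pullback ψ η[Hc])) := ‹DiscreteTopology K.left›
  exact e.symm.isEmbedding.discreteTopology

end GrothLib.SplitRed1
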