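import Groth.Agent.Lib.SplitRed1.Split
import Groth.Agent.Lib.Neutral.ArtinHom
import Groth.Agent.Lib.Neutral.HomImage
import Groth.Agent.Lib.GITQuot.Orbit
import Groth.Agent.Lib.RedPts.Ga
import Groth.Agent.Lib.Neutral.Connected

/-!
# Flatness and surjectivity of power maps of groups with connected fibres
-/

set_option autoImplicit false
set_option linter.all false
set_option backward.isDefEq.respectTransparency false
set_option maxHeartbeats 1000000

universe u

open CategoryTheory CategoryTheory.Limits MonoidalCategory CartesianMonoidalCategory MonObj GrpObj AlgebraicGeometry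
open Topology

noncomputable section

namespace GrothLib.SplitRed1

open GrothLib

section field

variable {K : Type u} [Field K]

/-- A surjective endomorphism of a connected smooth group is quasi-finite. -/
theorem locallyQuasiFinite_of_surjective [IsAlgClosed K] {G : Over (Spec (CommRingCat.of K))} [GrpObj G] [Smooth G.hom]
    [QuasiCompact G.hom] [ConnectedSpace G.left] (f : G ⟶ G) [IsMonHom f] (hs : Surjective f.left) :
    LocallyQuasiFinite f.left := by
  haveI := hs
  haveI : IsSeparated G.hom := GrpSchField.isSeparated G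
  haveI : IsIntegral G.left := Euler.isIntegral_of_smooth_connected K G.hom
  haveI : QuasiCompact f.left := by
    haveI : QuasiCompact (f.left ≫ G.hom) := by rw [Over.w f]; infer_instance
    exact QuasiCompact.of_comp f.left G.hom
  have hdim := Neutral.dim_eq_add_field f
  have e1 : topologicalKrullDim (Set.range f.left) = topologicalKrullDim G.left := by
    rw [f.left.surjective.range_eq]
    exact (Homeomorph.Set.univ _).isHomeomorph.topologicalKrullDim_eq _
  obtain ⟨d, hd⟩ := Chev24.exists_nat_dim (k := K) G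
  rw [e1, hd] at hdim
  have h0 : topologicalKrullDim ↥(pullback f.left η[G].left) ≤ 0 := by
    revert hdim
    generalize topologicalKrullDim ↥(pullback f.left η[G].left) = t
    intro ht
    induction t using WithBot.recBotCoe with
    | bot => exact bot_le
    | coe a =>
      induction a using ENat.recTopCoe with
      | top =>
        have h' : ((d : ℕ∞) : WithBot ℕ∞) = (((d : ℕ∞) + ⊤ : ℕ∞) : WithBot ℕ∞) := ht
        rw [add_top, WithBot.coe_inj] at h'
        exact absurd h' (ENat.coe_ne_top d)
      | coe m =>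
        have : d = d + m := by exact_mod_cast ht
        exact_mod_cast (show m ≤ 0 by omega)
  haveI : LocallyOfFiniteType f.left := by
    have : LocallyOfFiniteType (f.left ≫ G.hom) := by rw [Over.w f]; infer_instance
    exact locallyOfFiniteType_of_comp f.left G.hom
  let p := pullback.snd f.left η[G].left
  let Kr : Over (Spec (CommRingCat.of K)) := Over.mk p
  haveI : LocallyOfFiniteType Kr.hom := MorphismProperty.pullback_snd _ _ ‹LocallyOfFiniteType f.left›
  haveI : QuasiCompact Kr.hom := MorphismProperty.pullback_snd _ _ ‹QuasiCompact f.left›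
  haveI : IsFinite Kr.hom := Chev24.isFinite_of_dim_zero Kr h0
  refine Neutral.locallyQuasiFinite_of_kernel f ?_
  refine discreteTopology_iff_isOpen_singleton.mpr fun z => ?_
  have huniv : Kr.hom ⁻¹' {IsLocalRing.closedPoint K} = Set.univ :=
    Set.eq_univ_of_forall fun x => Subsingleton.elim (α := PrimeSpectrum K) _ _
  haveI : DiscreteTopology ↥(Kr.hom ⁻¹' {IsLocalRing.closedPoint K}) :=
    (Kr.hom.isDiscrete_preimage_singleton _).to_subtype
  have h2 : IsOpen (Subtype.val ⁻¹' {z} : Set ↥(Kr.hom ⁻¹' {IsLocalRing.closedPoint K})) := isOpen_discrete _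
  have h3 := (huniv ▸ isOpen_univ : IsOpen (Kr.hom ⁻¹' {IsLocalRing.closedPoint K})).isOpenMap_subtype_val _ h2
  rwa [Set.image_preimage_eq_inter_range, Subtype.range_val, huniv, Set.inter_univ] at h3

/-- Powers prime to the characteristic are surjective on connected groups. -/
theorem surjective_pow_of_ne_zero {G : Over (Spec (CommRingCat.of K))} [GrpObj G] [IsCommMonObj G] [Smooth G.hom]
    [QuasiCompact G.hom] [ConnectedSpace G.left] {m : ℕ} (hm : (m : K) ≠ 0) :
    Surjective ((𝟙 G : G ⟶ G) ^ m).left := by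
  haveI : IsSeparated G.hom := GrpSchField.isSeparated G
  let f : G ⟶ G := 𝟙 G ^ m
  haveI : IsMonHom f := GrpDeligne.isMonHom_pow (𝟙 G) m
  haveI : QuasiCompact f.left := by
    haveI : QuasiCompact (f.left ≫ G.hom) := by rw [Over.w f]; infer_instance
    exact QuasiCompact.of_comp f.left G.hom
  haveI : Etale f.left := by
    rw [show f = 𝟙 G ^ (m : ℤ) from (zpow_natCast _ _).symm]
    exact GrothLib.AbMul.etale_pow_field G (m : ℤ) (by exact_mod_cast hm)
  have hne : (Set.range f.left).Nonempty := ⟨_, η[G].left (IsLocalRing.closedPoint K), rfl⟩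
  exact ⟨Set.range_eq_univ.1 (IsClopen.eq_univ ⟨Neutral.isClosed_range_hom f, f.left.isOpenMap.isOpen_range⟩ hne)⟩

/-- In characteristic dividing `m` an additive subgroup prevents the `m`-th power map from being quasi-finite. -/
theorem false_of_Ga {G : Over (Spec (CommRingCat.of K))} [GrpObj G] [IsAlgClosed K] {m : ℕ} (hm : (m : K) = 0)
    (u : Red.Ga (Spec (CommRingCat.of K)) ⟶ G) [IsMonHom u] [IsClosedImmersion u.left]
    (hq : LocallyQuasiFinite ((𝟙 G : G ⟶ G) ^ m).left) : False := by
  let A := Red.Ga (Spec (CommRingCat.of K))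
  haveI : Mono u := Over.mono_of_mono_left u
  have h1 : (𝟙 A : A ⟶ A) ^ m = 1 := by
    have hpow : ∀ n : ℕ, Red.gaFn ((𝟙 A : A ⟶ A) ^ n) = (n : Γ(A.left, ⊤)) * Red.gaFn (𝟙 A) := by
      intro n
      induction n with
      | zero =>
        have e : Red.gaFn (1 : A ⟶ A) + Red.gaFn (1 : A ⟶ A) = Red.gaFn (1 : A ⟶ A) := by
          rw [← RedPts.gaFn_mul, _root_.one_mul]
        rw [pow_zero, Nat.cast_zero, zero_mul]
        exact add_eq_left.1 e
      | succ n ih => rw [pow_succ, RedPts.gaFn_mul, ih, Nat.cast_succ, add_mul, _root_.one_mul]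
    refine RedPts.gaFn_injective ?_
    have hz : (m : Γ(A.left, ⊤)) = 0 := by
      have h := congrArg (fun c => A.hom.appTop ((Scheme.ΓSpecIso (CommRingCat.of K)).inv c)) hm
      simpa using h
    rw [hpow, hz, zero_mul, ← pow_zero (𝟙 A), hpow, Nat.cast_zero, zero_mul]
  have h2 : u ≫ (𝟙 G : G ⟶ G) ^ m = 1 := by
    rw [MonObj.comp_pow, Category.comp_id, ← Category.id_comp u, ← MonObj.pow_comp, h1, MonObj.one_comp]
  haveI : LocallyOfFiniteType A.hom := RankCell14.lft_Ga _
  haveI : ConnectedSpace A.left := SemiAb16.connectedSpace_Ga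
  haveI : Subsingleton ↥(𝟙_ (Over (Spec (CommRingCat.of K)))).left := inferInstanceAs (Subsingleton (PrimeSpectrum K))
  have hsub : Set.range u.left ⊆ ((𝟙 G : G ⟶ G) ^ m).left ⁻¹' {η[G].left (IsLocalRing.closedPoint K)} := by
    rintro _ ⟨a, rfl⟩
    rw [Set.mem_preimage, Set.mem_singleton_iff, ← Scheme.Hom.comp_apply, ← Over.comp_left, h2, Hom.one_def,
      Over.comp_left, Scheme.Hom.comp_apply]
    exact congrArg _ (Subsingleton.elim _ _)
  have hss : (Set.range u.left).Subsingleton := by
    haveI : DiscreteTopology ↥(Set.range u.left) :=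
      ((((𝟙 G : G ⟶ G) ^ m).left.isDiscrete_preimage_singleton _).mono hsub).to_subtype
    haveI : PreconnectedSpace ↥(Set.range u.left) :=
      Subtype.preconnectedSpace (isConnected_range u.left.continuous).isPreconnected
    haveI : Subsingleton ↥(Set.range u.left) := PreconnectedSpace.trivial_of_discrete
    exact Set.subsingleton_coe _ |>.1 inferInstance
  haveI : Subsingleton A.left := ⟨fun a b => u.left.isClosedEmbedding.injective (hss ⟨a, rfl⟩ ⟨b, rfl⟩)⟩
  haveI : Smooth A.hom := NoTorus14.smooth_Ga _
  haveI := Chev24.isIso_hom_of_subsingleton A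
  refine SemiAb16.mono_Ga_not_const u η[G] (Over.OverMorphism.ext ?_)
  have e : A.hom ≫ η[A].left = 𝟙 A.left := by
    rw [← cancel_mono A.hom, Category.assoc, show η[A].left ≫ A.hom = 𝟙 _ from Over.w η[A]]
    simp
  calc u.left = (A.hom ≫ η[A].left) ≫ u.left := by rw [e, Category.id_comp]
    _ = A.hom ≫ η[G].left := by
      rw [Category.assoc, ← Over.comp_left, IsMonHom.one_hom]
    _ = _ := rfl

end field

section base

variable {S : Scheme.{u}} (G : Over S) [GrpObj G] [IsCommMonObj G] (m : ℕ)

/-- The geometric fibre of a power map. -/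
theorem geomFibre_map_pow (s : S) :
    (Over.pullback (Red.geomPt s)).map ((𝟙 G : G ⟶ G) ^ m) = (𝟙 (Red.geomFibre s G) : _ ⟶ Red.geomFibre s G) ^ m := by
  refine (map_pow (Over.pullback (Red.geomPt s)).homMonoidHom (𝟙 G) m).trans ?_
  show ((Over.pullback (Red.geomPt s)).map (𝟙 G)) ^ m = _
  rw [CategoryTheory.Functor.map_id]

omit [GrpObj G] [IsCommMonObj G] in
theorem exists_geom_point (y : G.left) :
    ∃ z : (Red.bc (Red.geomPt (G.hom y)) G).left, pullback.fst G.hom (Red.geomPt (G.hom y)) z = y := by
  obtain ⟨z, hz, -⟩ := Scheme.Pullback.exists_preimage_pullback (f := G.hom) (g := Red.geomPt (G.hom y)) y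
    (IsLocalRing.closedPoint _) (by
      show _ = (Spec.map _ ≫ S.fromSpecResidueField (G.hom y)) _
      rw [Scheme.Hom.comp_apply, Scheme.fromSpecResidueField_apply])
  exact ⟨z, hz⟩

theorem surjective_iff_geomFibre [Smooth G.hom] :
    Surjective ((𝟙 G : G ⟶ G) ^ m).left ↔
      ∀ s : S, Surjective ((𝟙 (Red.geomFibre s G) : _ ⟶ Red.geomFibre s G) ^ m).left := by
  constructor
  · intro h s
    rw [← geomFibre_map_pow]
    exact MorphismProperty.of_isPullback (isPullback_map (Red.geomPt s) _) h
  · intro h
    refine ⟨fun y => ?_⟩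
    obtain ⟨z, hz⟩ := exists_geom_point G y
    haveI := h (G.hom y)
    obtain ⟨w, hw⟩ := ((𝟙 (Red.geomFibre (G.hom y) G) : _ ⟶ _) ^ m).left.surjective z
    refine ⟨pullback.fst G.hom (Red.geomPt (G.hom y)) w, ?_⟩
    rw [← geomFibre_map_pow] at hw
    refine Eq.trans ?_ ((congrArg (pullback.fst G.hom (Red.geomPt (G.hom y))) hw).trans hz)
    exact congr($((isPullback_map (Red.geomPt (G.hom y)) ((𝟙 G : G ⟶ G) ^ m)).w) w)

theorem locallyQuasiFinite_iff_geomFibre [Smooth G.hom] [IsSeparated G.hom] [QuasiCompact G.hom] :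
    LocallyQuasiFinite ((𝟙 G : G ⟶ G) ^ m).left ↔
      ∀ s : S, LocallyQuasiFinite ((𝟙 (Red.geomFibre s G) : _ ⟶ Red.geomFibre s G) ^ m).left := by
  let f : G ⟶ G := 𝟙 G ^ m
  haveI : QuasiCompact f.left := by
    haveI : QuasiCompact (f.left ≫ G.hom) := by rw [Over.w f]; infer_instance
    exact QuasiCompact.of_comp f.left G.hom
  haveI : LocallyOfFiniteType f.left := by
    have : LocallyOfFiniteType (f.left ≫ G.hom) := by rw [Over.w f]; infer_instance
    exact locallyOfFiniteType_of_comp f.left G.hom
  constructor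
  · intro h s
    rw [← geomFibre_map_pow]
    exact MorphismProperty.of_isPullback (isPullback_map (Red.geomPt s) _) h
  · intro h
    refine LocallyQuasiFinite.of_finite_preimage_singleton _ fun y => ?_
    obtain ⟨z, hz⟩ := exists_geom_point G y
    let ψ := (Over.pullback (Red.geomPt (G.hom y))).map f
    have sq := isPullback_map (Red.geomPt (G.hom y)) f
    haveI : QuasiCompact ψ.left := MorphismProperty.of_isPullback sq ‹QuasiCompact f.left›
    haveI : LocallyQuasiFinite ψ.left := by
      show LocallyQuasiFinite ((Over.pullback (Red.geomPt (G.hom y))).map ((𝟙 G : G ⟶ G) ^ m)).left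
      rw [geomFibre_map_pow]; exact h _
    refine ((ψ.left.finite_preimage_singleton z).image (pullback.fst G.hom (Red.geomPt (G.hom y)))).subset fun x hx => ?_
    obtain ⟨w, hw₁, hw₂⟩ := GITQuot.exists_preimage_isPullback sq x z ((Set.mem_singleton_iff.1 hx).trans hz.symm)
    exact ⟨w, hw₂, hw₁⟩

omit [IsCommMonObj G] in
theorem connectedSpace_geomFibre [Smooth G.hom]
    (hconn : ∀ s : S, ConnectedSpace ↥(Red.bc (S.fromSpecResidueField s) G).left) (s : S) :
    ConnectedSpace (Red.geomFibre s G).left := by
  haveI := hconn s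
  let G' := Red.bc (S.fromSpecResidueField s) G
  haveI : GeometricallyConnected G'.hom :=
    Neutral.geometricallyConnected_of_point G'.hom η[G'].left (Over.w η[G'])
  exact GeometricallyConnected.geometrically_connectedSpace (f := G'.hom)
    (Spec.map (CommRingCat.ofHom (algebraMap (S.residueField s) (AlgebraicClosure (S.residueField s)))))
    (pullback.lift (pullback.fst G.hom (Red.geomPt s))
      (pullback.snd G.hom (Red.geomPt s) ≫ Spec.map (CommRingCat.ofHom (algebraMap (S.residueField s) (AlgebraicClosure (S.residueField s)))))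
      (by rw [Category.assoc]; exact pullback.condition))
    (pullback.snd G.hom (Red.geomPt s))
    (IsPullback.of_right (h₁₂ := pullback.fst G.hom (S.fromSpecResidueField s))
      (by rw [pullback.lift_fst]; exact IsPullback.of_hasPullback G.hom (Red.geomPt s))
      (pullback.lift_snd _ _ _) (IsPullback.of_hasPullback G.hom (S.fromSpecResidueField s)))

end base

section points

/-- The geometric point lies over its point. -/
theorem geomPt_apply {S : Scheme.{u}} (s : S) (x : Spec (CommRingCat.of (AlgebraicClosure (S.residueField s)))) :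
    Red.geomPt s x = s := by
  show ((Spec.map _) ≫ S.fromSpecResidueField s) x = s
  rw [Scheme.Hom.comp_apply, Scheme.fromSpecResidueField_apply]

theorem natCast_eq_zero_of_point {R : Type u} [CommRing R] [IsLocalRing R] {L : Type u} [Field L]
    (c : Spec (CommRingCat.of L) ⟶ Spec (CommRingCat.of R))
    (hc : c (IsLocalRing.closedPoint L) = IsLocalRing.closedPoint R) (m : ℕ)
    (h0 : (m : IsLocalRing.ResidueField R) = 0) : (m : L) = 0 := by
  obtain ⟨φ, rfl⟩ := Spec.map_surjective c
  have h2 : (m : R) ∈ ((Spec.map φ) (IsLocalRing.closedPoint L)).asIdeal := by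
    rw [hc]
    show (m : R) ∈ IsLocalRing.maximalIdeal R
    rw [← IsLocalRing.residue_eq_zero_iff, map_natCast]
    exact h0
  have h3 : φ.hom (m : R) ∈ IsLocalRing.maximalIdeal L := h2
  rwa [IsLocalRing.maximalIdeal_eq_bot, Ideal.mem_bot, map_natCast] at h3

theorem natCast_ne_zero_of_isUnit {R : Type u} [CommRing R] [IsLocalRing R] {L : Type u} [Field L]
    (c : Spec (CommRingCat.of L) ⟶ Spec (CommRingCat.of R)) (m : ℕ)
    (h0 : (m : IsLocalRing.ResidueField R) ≠ 0) : (m : L) ≠ 0 := by
  obtain ⟨φ, rfl⟩ := Spec.map_surjective c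
  have hu : IsUnit (m : R) := by
    rw [← IsLocalRing.notMem_maximalIdeal, ← IsLocalRing.residue_eq_zero_iff, map_natCast]
    exact h0
  have := hu.map φ.hom
  rw [map_natCast] at this
  exact this.ne_zero

theorem exists_factor_generic {R : Type u} [CommRing R] [IsDomain R] [IsDiscreteValuationRing R] (K : Type u) [Field K]
    [Algebra R K] [IsFractionRing R K] {L : Type u} [Field L] (c : Spec (CommRingCat.of L) ⟶ Spec (CommRingCat.of R))
    (hc : c (IsLocalRing.closedPoint L) ≠ IsLocalRing.closedPoint R) :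
    ∃ q : Spec (CommRingCat.of L) ⟶ Spec (CommRingCat.of K), c = q ≫ Spec.map (CommRingCat.ofHom (algebraMap R K)) := by
  obtain ⟨φ, rfl⟩ := Spec.map_surjective c
  have hφ : Function.Injective φ.hom := by
    rw [injective_iff_map_eq_zero]
    intro r hr
    by_contra hr0
    refine hc (PrimeSpectrum.ext ?_)
    have h2 : r ∈ ((Spec.map φ) (IsLocalRing.closedPoint L)).asIdeal := by
      show φ.hom r ∈ IsLocalRing.maximalIdeal L
      rw [hr]
      exact Ideal.zero_mem _
    exact IsLocalRing.eq_maximalIdeal (((Spec.map φ) (IsLocalRing.closedPoint L)).isPrime.isMaximal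
      (fun hb => hr0 (by rwa [hb, Ideal.mem_bot] at h2)))
  refine ⟨Spec.map (CommRingCat.ofHom (IsFractionRing.lift hφ)), ?_⟩
  rw [← Spec.map_comp, ← CommRingCat.ofHom_comp]
  congr 1
  ext x
  exact (IsFractionRing.lift_algebraMap hφ x).symm

/-- Power maps are surjective on fibres coming from proper ones. -/
theorem surjective_pow_of_factor {S : Scheme.{u}} (G : Over S) [GrpObj G] {K : Type u} [Field K] {L : Type u}
    [Field L] [IsAlgClosed L] (b : Spec (CommRingCat.of K) ⟶ S) (c : Spec (CommRingCat.of L) ⟶ S)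
    (q : Spec (CommRingCat.of L) ⟶ Spec (CommRingCat.of K)) (hc : c = q ≫ b) [IsProper (Red.bc b G).hom]
    [Smooth (Red.bc c G).hom] [QuasiCompact (Red.bc c G).hom] [ConnectedSpace (Red.bc c G).left] {m : ℕ} (hm : m ≠ 0) :
    Surjective ((𝟙 (Red.bc c G) : _ ⟶ Red.bc c G) ^ m).left := by
  let e := GrothLib.DiagGrp.bcGrpComp G b q c hc
  haveI : IsProper (Red.bc q (Red.bc b G)).hom := MorphismProperty.pullback_snd _ _ ‹IsProper (Red.bc b G).hom›
  haveI : IsIso e.hom.hom.hom := inferInstanceAs (IsIso ((Grp.forget _).mapIso e).hom)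
  haveI : IsIso e.hom.hom.hom.left := inferInstanceAs (IsIso ((Over.forget _).map e.hom.hom.hom))
  haveI : IsProper (Red.bc c G).hom := by
    rw [← Over.w e.hom.hom.hom]
    exact MorphismProperty.RespectsIso.precomp _ _ _ ‹IsProper (Red.bc q (Red.bc b G)).hom›
  haveI : IsIntegral (Red.bc c G).left := Euler.isIntegral_of_smooth_connected L (Red.bc c G).hom
  haveI := Cube.geometricallyIntegral_of_isAlgClosed (Red.bc c G)
  exact Cube.surjective_pow _ hm

/-- Quasi-finiteness of a power map excludes additive subgroups of the special geometric fibre. -/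
theorem unipotentRankZero_of_lqf {R : Type u} [CommRing R] [IsLocalRing R] (G : Over (Spec (CommRingCat.of R)))
    [GrpObj G] [IsCommMonObj G] [Smooth G.hom] [IsSeparated G.hom] [QuasiCompact G.hom] (m : ℕ)
    (h : LocallyQuasiFinite ((𝟙 G : G ⟶ G) ^ m).left) (h0 : (m : IsLocalRing.ResidueField R) = 0)
    (s : Spec (CommRingCat.of R)) (hs : s = IsLocalRing.closedPoint R) : SGA7.FibreUnipotentRankZero s G := by
  intro u hu hu'
  have hq := (locallyQuasiFinite_iff_geomFibre G m).1 h s
  have hz := natCast_eq_zero_of_point (Red.geomPt s) ((geomPt_apply _ _).trans hs) m h0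
  exact @false_of_Ga _ _ (Red.geomFibre s G) _ _ m hz u hu hu' hq

/-- Surjectivity of a power map on a geometric fibre over a closed point. -/
theorem surjective_closed_fibre {R : Type u} [CommRing R] [IsLocalRing R] (G : Over (Spec (CommRingCat.of R)))
    [GrpObj G] (s : Spec (CommRingCat.of R)) [IsCommMonObj (Red.geomFibre s G)] [Smooth (Red.geomFibre s G).hom]
    [QuasiCompact (Red.geomFibre s G).hom] [ConnectedSpace (Red.geomFibre s G).left] (m : ℕ) (hm : m ≠ 0)
    (h : (m : IsLocalRing.ResidueField R) ≠ 0 ∨ SGA7.FibreUnipotentRankZero s G) :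
    Surjective ((𝟙 (Red.geomFibre s G) : _ ⟶ Red.geomFibre s G) ^ m).left := by
  rcases h with h0 | hga
  · exact surjective_pow_of_ne_zero (natCast_ne_zero_of_isUnit (Red.geomPt s) m h0)
  · exact surjective_pow hm _ (fun v hv hvc => hga v hv hvc)

/-- Surjectivity of a power map on a geometric fibre over the generic point. -/
theorem surjective_generic_fibre {R : Type u} [CommRing R] [IsDomain R] [IsDiscreteValuationRing R] (K : Type u)
    [Field K] [Algebra R K] [IsFractionRing R K] (G : Over (Spec (CommRingCat.of R))) [GrpObj G]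
    [IsProper ((SGA7.genFib R K).obj G).hom]
    (s : Spec (CommRingCat.of R)) (hs : s ≠ IsLocalRing.closedPoint R) [Smooth (Red.geomFibre s G).hom]
    [QuasiCompact (Red.geomFibre s G).hom] [ConnectedSpace (Red.geomFibre s G).left] (m : ℕ) (hm : m ≠ 0) :
    Surjective ((𝟙 (Red.geomFibre s G) : _ ⟶ Red.geomFibre s G) ^ m).left := by
  obtain ⟨q, hq⟩ := exists_factor_generic K (Red.geomPt s) (by rw [geomPt_apply]; exact hs)
  haveI : IsProper (Red.bc (Spec.map (CommRingCat.ofHom (algebraMap R K))) G).hom :=
    ‹IsProper ((SGA7.genFib R K).obj G).hom›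
  exact surjective_pow_of_factor G _ (Red.geomPt s) q hq hm

theorem surjective_of_alt {R : Type u} [CommRing R] [IsDomain R] [IsDiscreteValuationRing R] (K : Type u)
    [Field K] [Algebra R K] [IsFractionRing R K] (G : Over (Spec (CommRingCat.of R))) [GrpObj G] [IsCommMonObj G]
    [Smooth G.hom] [QuasiCompact G.hom] [IsProper ((SGA7.genFib R K).obj G).hom]
    (hc : ∀ s, ConnectedSpace (Red.geomFibre s G).left) (m : ℕ) (hm : m ≠ 0)
    (h : ∀ s : Spec (CommRingCat.of R), s = IsLocalRing.closedPoint R →
      ((m : IsLocalRing.ResidueField R) ≠ 0 ∨ SGA7.FibreUnipotentRankZero s G)) :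
    Surjective ((𝟙 G : G ⟶ G) ^ m).left := by
  rw [surjective_iff_geomFibre]
  intro s
  haveI := hc s
  haveI : Smooth (Red.geomFibre s G).hom := MorphismProperty.pullback_snd _ _ ‹Smooth G.hom›
  haveI : QuasiCompact (Red.geomFibre s G).hom := MorphismProperty.pullback_snd _ _ ‹QuasiCompact G.hom›
  haveI : IsCommMonObj (Red.geomFibre s G) := Functor.isCommMonObj_obj
  by_cases hs : s = IsLocalRing.closedPoint R
  · exact surjective_closed_fibre G s m hm (h s hs)
  · exact surjective_generic_fibre K G s hs m hm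

end points

end GrothLib.SplitRed1
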