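import Groth.Agent.Lib.SplitRed1.IsogFibre

/-!
# Multiplication is quasi-finite on groups without additive subgroups
-/

set_option autoImplicit false
set_option linter.all false
set_option backward.isDefEq.respectTransparency false
set_option maxHeartbeats 1000000

universe u

open CategoryTheory CategoryTheory.Limits MonoidalCategory CartesianMonoidalCategory MonObj GrpObj AlgebraicGeometry
open Topology

noncomputable section

namespace GrothLib.SplitRed1

open GrothLib

variable {k : Type u} [Field k] [IsAlgClosed k]

/-- On a smooth commutative group without additive subgroups every positive power map is quasi-finite. -/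
theorem lqf_pow_of_noGa (G : Over (Spec (CommRingCat.of k))) [GrpObj G] [IsCommMonObj G] [Smooth G.hom]
    [QuasiCompact G.hom]
    (hga : ∀ v : Red.Ga (Spec (CommRingCat.of k)) ⟶ G, IsMonHom v → IsClosedImmersion v.left → False)
    {n : ℕ} (hn : n ≠ 0) : LocallyQuasiFinite ((𝟙 G : G ⟶ G) ^ n).left := by
  haveI : IsSeparated G.hom := GrpSchField.isSeparated G
  let ψ : G ⟶ G := 𝟙 G ^ n
  haveI : IsMonHom ψ := GrpDeligne.isMonHom_pow (𝟙 G) n
  haveI : QuasiCompact ψ.left := by
    haveI : QuasiCompact (ψ.left ≫ G.hom) := by rw [Over.w ψ]; infer_instance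
    exact QuasiCompact.of_comp ψ.left G.hom
  let K := pullback ψ η[G]
  let iK : K ⟶ G := pullback.fst ψ η[G]
  have hK : AlgGrp.IsKernel iK ψ := by
    show IsPullback _ _ _ _
    rw [Subsingleton.elim (toUnit _) (pullback.snd ψ η[G])]
    exact IsPullback.of_hasPullback ψ η[G]
  obtain ⟨_, _⟩ := GrpDeligne.exists_grpObj_kernel ψ iK hK
  have hsqK := (IsPullback.of_hasPullback ψ η[G]).map (Over.forget _)
  haveI := GrothLib.GrpSchField.unit_isClosedImmersion G
  haveI : IsClosedImmersion iK.left :=
    MorphismProperty.of_isPullback hsqK.flip (inferInstanceAs (IsClosedImmersion η[G].left))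
  haveI : LocallyOfFiniteType K.hom := by rw [← Over.w iK]; infer_instance
  haveI : QuasiCompact K.hom := by rw [← Over.w iK]; infer_instance
  obtain ⟨R, _, jK, hjK, hjKc, hRs, hRc, hRdim, -⟩ := Chev24.exists_redNeutral K
  haveI := hjK; haveI := hjKc; haveI := hRs; haveI := hRc
  let r : R ⟶ G := jK ≫ iK
  haveI : IsClosedImmersion r.left := inferInstanceAs (IsClosedImmersion (jK.left ≫ iK.left))
  haveI : IsMonHom r := inferInstanceAs (IsMonHom (jK ≫ iK))
  haveI : Mono r := Over.mono_of_mono_left r
  haveI : QuasiCompact R.hom := by rw [← Over.w r]; infer_instance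
  haveI : IsCommMonObj R := AlgGrp14.isCommMonObj_of_mono r
  have hrψ : r ≫ ψ = 1 := by
    rw [Category.assoc, hK.w, ← Category.assoc, Hom.one_def]
    exact congrArg (· ≫ η[G]) (toUnit_unique _ _)
  haveI : Subsingleton R.left := by
    refine subsingleton_of_killed hn R (fun v _ hv => by
      haveI := hv
      exact hga (v ≫ r) inferInstance (inferInstanceAs (IsClosedImmersion (v.left ≫ r.left)))) ?_
    rw [← cancel_mono r, MonObj.pow_comp, Category.id_comp, MonObj.one_comp, ← hrψ, MonObj.comp_pow,
      Category.comp_id]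
  have h0 : topologicalKrullDim K.left ≤ 0 := hRdim ▸ Chev24.dim_le_zero_of_subsingleton
  haveI : IsFinite K.hom := Chev24.isFinite_of_dim_zero K h0
  refine Neutral.locallyQuasiFinite_of_kernel ψ ?_
  let e := hsqK.isoPullback.hom.homeomorph
  haveI : DiscreteTopology K.left := by
    refine discreteTopology_iff_isOpen_singleton.mpr fun z => ?_
    have huniv : K.hom ⁻¹' {IsLocalRing.closedPoint k} = Set.univ :=
      Set.eq_univ_of_forall fun x => Subsingleton.elim (α := PrimeSpectrum k) _ _
    haveI : DiscreteTopology ↥(K.hom ⁻¹' {IsLocalRing.closedPoint k}) :=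
      (K.hom.isDiscrete_preimage_singleton _).to_subtype
    have h2 : IsOpen (Subtype.val ⁻¹' {z} : Set ↥(K.hom ⁻¹' {IsLocalRing.closedPoint k})) := isOpen_discrete _
    have h3 := (huniv ▸ isOpen_univ : IsOpen (K.hom ⁻¹' {IsLocalRing.closedPoint k})).isOpenMap_subtype_val _ h2
    rwa [Set.image_preimage_eq_inter_range, Subtype.range_val, huniv, Set.inter_univ] at h3
  haveI : DiscreteTopology ↥((Over.forget (Spec (CommRingCat.of k))).obj (pullback ψ η[G])) := ‹DiscreteTopology K.left›
  exact e.symm.isEmbedding.discreteTopology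

/-- An abelian variety has no additive subgroup. -/
theorem false_of_Ga_proper {B : Over (Spec (CommRingCat.of k))} [GrpObj B] [IsProper B.hom] [Smooth B.hom]
    [ConnectedSpace B.left] (v : Red.Ga (Spec (CommRingCat.of k)) ⟶ B) [IsClosedImmersion v.left] : False := by
  haveI : Mono v := Over.mono_of_mono_left v
  obtain ⟨c, hc⟩ := SemiAb16.const_Ga_proper v
  exact SemiAb16.mono_Ga_not_const v c hc

end GrothLib.SplitRed1
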