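import Groth.Agent.Lib.SplitRed1.MulFlat
import Groth.Agent.Lib.AbTors.Count
import Groth.Agent.Lib.EtBasicB.OverField

/-!
# Torsion in kernels of homomorphisms that are injective on the generic fibre
-/

set_option autoImplicit false
set_option linter.all false
set_option backward.isDefEq.respectTransparency false
set_option maxHeartbeats 1000000

universe u

open CategoryTheory CategoryTheory.Limits MonoidalCategory CartesianMonoidalCategory MonObj GrpObj AlgebraicGeometry
open Topology

noncomputable section

namespace GrothLib.SplitRed1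

open GrothLib

/-- A torsion point of invertible order killed by a generically injective homomorphism is trivial. -/
theorem torsion_eq_one {S : Scheme.{u}} {G H : Over S} [GrpObj G] [GrpObj H] [IsCommMonObj G] [IsCommMonObj H]
    [Smooth G.hom] [Smooth H.hom] [IsSeparated G.hom] [IsSeparated H.hom] (u : G ⟶ H) [IsMonHom u] (ℓ : ℕ)
    (hℓ : IsUnit ((ℓ : ℤ) : Γ(S, ⊤))) (t : S) (ht : ∀ s : S, t ⤳ s)
    (hgen : ∀ g : G.left, G.hom g = t → u.left g = η[H].left t → g = η[G].left t)
    {T : Over S} (x : T ⟶ G) (hx : x ^ ℓ = 1) (hxu : x ≫ u = 1) : x = 1 := by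
  let fG : G ⟶ G := 𝟙 G ^ ℓ
  let fH : H ⟶ H := 𝟙 H ^ ℓ
  haveI : Etale fG.left := by
    rw [show fG = 𝟙 G ^ (ℓ : ℤ) from (zpow_natCast _ _).symm]
    exact AbMul.etale_pow_relative G (ℓ : ℤ) hℓ
  haveI : Etale fH.left := by
    rw [show fH = 𝟙 H ^ (ℓ : ℤ) from (zpow_natCast _ _).symm]
    exact AbMul.etale_pow_relative H (ℓ : ℤ) hℓ
  let E := pullback fG.left η[G].left
  let F := pullback fH.left η[H].left
  let pE : E ⟶ S := pullback.snd fG.left η[G].left
  let pF : F ⟶ S := pullback.snd fH.left η[H].left
  haveI : Etale pE := MorphismProperty.pullback_snd _ _ ‹Etale fG.left›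
  haveI : Etale pF := MorphismProperty.pullback_snd _ _ ‹Etale fH.left›
  have hone : ∀ (X : Over S) [GrpObj X], η[X] ≫ (𝟙 X : X ⟶ X) ^ ℓ = η[X] := fun X _ => by
    rw [MonObj.comp_pow, Category.comp_id, MonObj.one_eq_one, one_pow]
  let eG : S ⟶ E := pullback.lift η[G].left (𝟙 _) (by
    rw [← Over.comp_left, hone G]; exact (Category.id_comp _).symm)
  let eF : S ⟶ F := pullback.lift η[H].left (𝟙 _) (by
    rw [← Over.comp_left, hone H]; exact (Category.id_comp _).symm)
  have heG : eG ≫ pE = 𝟙 _ := pullback.lift_snd _ _ _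
  have heF : eF ≫ pF = 𝟙 _ := pullback.lift_snd _ _ _
  haveI : IsSeparated pE := by
    have h := congrArg (fun g => g ≫ G.hom) (pullback.condition (f := fG.left) (g := η[G].left))
    simp only [Category.assoc, Over.w] at h
    haveI : IsClosedImmersion η[G].left := by
      haveI : IsClosedImmersion (η[G].left ≫ G.hom) := by
        rw [show η[G].left ≫ G.hom = 𝟙 _ from Over.w η[G]]; infer_instance
      exact IsClosedImmersion.of_comp η[G].left G.hom
    haveI : IsClosedImmersion (pullback.fst fG.left η[G].left) :=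
      MorphismProperty.pullback_fst _ _ ‹IsClosedImmersion η[G].left›
    rw [show pE = pullback.fst fG.left η[G].left ≫ G.hom by rw [h]; exact (Category.comp_id _).symm]
    infer_instance
  haveI : IsSeparated pF := by
    have h := congrArg (fun g => g ≫ H.hom) (pullback.condition (f := fH.left) (g := η[H].left))
    simp only [Category.assoc, Over.w] at h
    haveI : IsClosedImmersion η[H].left := by
      haveI : IsClosedImmersion (η[H].left ≫ H.hom) := by
        rw [show η[H].left ≫ H.hom = 𝟙 _ from Over.w η[H]]; infer_instance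
      exact IsClosedImmersion.of_comp η[H].left H.hom
    haveI : IsClosedImmersion (pullback.fst fH.left η[H].left) :=
      MorphismProperty.pullback_fst _ _ ‹IsClosedImmersion η[H].left›
    rw [show pF = pullback.fst fH.left η[H].left ≫ H.hom by rw [h]; exact (Category.comp_id _).symm]
    infer_instance
  haveI : IsOpenImmersion eF := EtBasicB.isOpenImmersion_section pF eF heF
  haveI : IsOpenImmersion eG := EtBasicB.isOpenImmersion_section pE eG heG
  have hE : ∀ z : E, G.hom (pullback.fst fG.left η[G].left z) = pE z := fun z => by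
    have h := congrArg (fun g => g ≫ G.hom) (pullback.condition (f := fG.left) (g := η[G].left))
    simp only [Category.assoc, Over.w] at h
    rw [← Scheme.Hom.comp_apply, h]
    rfl
  haveI : IsClosedImmersion η[G].left := by
    haveI : IsClosedImmersion (η[G].left ≫ G.hom) := by
      rw [show η[G].left ≫ G.hom = 𝟙 _ from Over.w η[G]]; infer_instance
    exact IsClosedImmersion.of_comp η[G].left G.hom
  haveI : IsClosedImmersion (pullback.fst fG.left η[G].left) :=
    MorphismProperty.pullback_fst _ _ ‹IsClosedImmersion η[G].left›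
  haveI : IsClosedImmersion eG := by
    haveI : IsClosedImmersion (eG ≫ pE) := by rw [heG]; infer_instance
    exact IsClosedImmersion.of_comp eG pE
  have hcomm : u ≫ fH = fG ≫ u := by
    rw [MonObj.comp_pow, Category.comp_id, MonObj.pow_comp, Category.id_comp]
  let φ : E ⟶ F := pullback.lift (pullback.fst fG.left η[G].left ≫ u.left) pE (by
    rw [Category.assoc, ← Over.comp_left, hcomm, Over.comp_left, pullback.condition_assoc, ← Over.comp_left,
      IsMonHom.one_hom])
  let Z : Set E := φ ⁻¹' Set.range eF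
  have hZ : IsOpen Z := eF.isOpenEmbedding.isOpen_range.preimage φ.continuous
  have hsub : Z ⊆ Set.range eG := by
    intro z hz
    by_contra hzne
    have hopen : IsOpen (Z ∩ (Set.range eG)ᶜ) :=
      hZ.inter eG.isClosedEmbedding.isClosed_range.isOpen_compl
    obtain ⟨y, hy, hyt⟩ := Flat.generalizingMap pE (ht (pE z))
    obtain ⟨⟨s, hs⟩, hy'⟩ := hy.mem_open hopen ⟨hz, hzne⟩
    have hst : s = t := by
      rw [← hyt]
      have h := congrArg pF hs
      rw [← Scheme.Hom.comp_apply, heF, ← Scheme.Hom.comp_apply, show φ ≫ pF = pE from pullback.lift_snd _ _ _] at h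
      exact h
    have h1 : u.left (pullback.fst fG.left η[G].left y) = η[H].left t := by
      have h := congrArg (pullback.fst fH.left η[H].left) hs
      rw [← Scheme.Hom.comp_apply, ← Scheme.Hom.comp_apply,
        show eF ≫ pullback.fst fH.left η[H].left = η[H].left from pullback.lift_fst _ _ _,
        show φ ≫ pullback.fst fH.left η[H].left = pullback.fst fG.left η[G].left ≫ u.left from pullback.lift_fst _ _ _,
        Scheme.Hom.comp_apply, hst] at h
      exact h.symm
    have h2 := hgen _ ((hE y).trans hyt) h1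
    refine hy' ⟨t, (pullback.fst fG.left η[G].left).isClosedEmbedding.injective ?_⟩
    rw [h2, ← Scheme.Hom.comp_apply, show eG ≫ pullback.fst fG.left η[G].left = η[G].left from pullback.lift_fst _ _ _]
    rfl
  have hxf : x.left ≫ fG.left = T.hom ≫ η[G].left := by
    rw [← Over.comp_left, MonObj.comp_pow, Category.comp_id, hx, Hom.one_def, Over.comp_left]
    rfl
  let l : T.left ⟶ E := pullback.lift x.left T.hom hxf
  have hlZ : Set.range l ⊆ Z := by
    rintro _ ⟨a, rfl⟩
    refine ⟨T.hom a, ?_⟩
    rw [← Scheme.Hom.comp_apply, ← Scheme.Hom.comp_apply]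
    suffices e : T.hom ≫ eF = l ≫ φ by rw [e]
    apply pullback.hom_ext
    · simp only [Category.assoc, eF, φ, l, pullback.lift_fst, pullback.lift_fst_assoc]
      rw [← Over.comp_left, hxu, Hom.one_def, Over.comp_left]
      rfl
    · simp only [Category.assoc, eF, φ, l, pE, pullback.lift_snd]
      exact Category.comp_id _
  have hlift := IsOpenImmersion.lift_fac eG l (hlZ.trans hsub)
  have h3 : IsOpenImmersion.lift eG l (hlZ.trans hsub) = T.hom := by
    have h := congrArg (· ≫ pE) hlift
    simp only [Category.assoc, heG, Category.comp_id] at h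
    rw [h]; exact pullback.lift_snd _ _ _
  refine Over.OverMorphism.ext ?_
  have h4 := congrArg (· ≫ pullback.fst fG.left η[G].left) hlift
  simp only [Category.assoc, eG, l, pullback.lift_fst] at h4
  rw [h3] at h4
  rw [← h4, Hom.one_def, Over.comp_left]
  rfl

variable {k : Type u} [Field k] [IsAlgClosed k]

/-- A connected smooth commutative group without additive subgroups and without torsion of invertible order is a
point. -/
theorem subsingleton_of_noTorsion (G : Over (Spec (CommRingCat.of k))) [GrpObj G] [IsCommMonObj G]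
    [Smooth G.hom] [QuasiCompact G.hom] [ConnectedSpace G.left]
    (hga : ∀ u : Red.Ga (Spec (CommRingCat.of k)) ⟶ G, IsMonHom u → IsClosedImmersion u.left → False)
    (hU : ∀ (ℓ : ℕ), (ℓ : k) ≠ 0 → ∀ (Y : Over (Spec (CommRingCat.of k))) (x : Y ⟶ G), x ^ ℓ = 1 → x = 1) :
    Subsingleton G.left := by
  haveI : IsIntegral G.left := Euler.isIntegral_of_smooth_connected k G.hom
  haveI : IsSeparated G.hom := GrpSchField.isSeparated G
  by_cases hp : IsProper G.hom
  · haveI := Cube.geometricallyIntegral_of_isAlgClosed G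
    obtain ⟨g, hg⟩ := Chev24.exists_nat_dim (k := k) G
    obtain ⟨ℓ, hℓ, hℓk⟩ : ∃ ℓ : ℕ, ℓ.Prime ∧ (ℓ : k) ≠ 0 := by
      by_cases h2 : (2 : k) = 0
      · refine ⟨3, Nat.prime_three, fun h3 => one_ne_zero (α := k) ?_⟩
        rw [show (1 : k) = ((3 : ℕ) : k) - 2 by norm_num, h3, h2, sub_zero]
      · exact ⟨2, Nat.prime_two, by exact_mod_cast h2⟩
    have hcard := AbTors.card_torsPts (A := G) hg hℓk (Ω := k) (𝟙 _)
    haveI : Subsingleton ↥(AbDual.torsPts G ℓ (Over.mk (𝟙 (Spec (CommRingCat.of k))))) :=
      ⟨fun a b => Subtype.ext ((hU ℓ hℓk _ a.1 ((AbDual.mem_torsPts G a.1).1 a.2)).trans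
        (hU ℓ hℓk _ b.1 ((AbDual.mem_torsPts G b.1).1 b.2)).symm)⟩
    rw [Nat.card_of_subsingleton ⟨1, Subgroup.one_mem _⟩] at hcard
    have hg0 : g = 0 := by
      by_contra hg0
      exact (Nat.one_lt_pow (by omega) hℓ.one_lt).ne hcard
    have h := GrothLib.Dim.subsingleton_of_dim_eq_zero (S := (Set.univ : Set G.left)) isClosed_univ
      (IrreducibleSpace.isIrreducible_univ _)
      (((Homeomorph.Set.univ G.left).isHomeomorph.topologicalKrullDim_eq _).le.trans (by rw [hg, hg0]; exact_mod_cast le_rfl))
    exact Set.subsingleton_univ_iff.1 h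
  exfalso
  obtain ⟨H, _, j, hj, hjc, hHs, hHa, hHdim⟩ := Chev24.exists_affine_of_not_isProper hp
  haveI := hj; haveI := hjc; haveI := hHs; haveI := hHa
  haveI : QuasiCompact H.hom := by rw [← Over.w j]; infer_instance
  obtain ⟨H₀, _, i, hi, hic, hs₀, hc₀, hdim, -⟩ := Chev24.exists_redNeutral H
  haveI := hi; haveI := hic; haveI := hs₀; haveI := hc₀
  let v : H₀ ⟶ G := i ≫ j
  haveI : IsClosedImmersion v.left := inferInstanceAs (IsClosedImmersion (i.left ≫ j.left))
  haveI : Mono v := Over.mono_of_mono_left v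
  haveI : IsAffine H₀.left := isAffine_of_isAffineHom i.left
  haveI : QuasiCompact H₀.hom := by rw [← Over.w v]; infer_instance
  haveI : IsIntegral H₀.left := Euler.isIntegral_of_smooth_connected k H₀.hom
  haveI : IsCommMonObj H₀ := AlgGrp14.isCommMonObj_of_mono v
  have hnt : Red.HasNoSubtorus k H₀ := fun T _ t _ _ hT => NoTorus14.isTrivialGrp_of_mono hT (t ≫ v) hU
  obtain ⟨m, hm⟩ := Chev24.exists_nat_dim (k := k) H₀
  have hm0 : m ≠ 0 := fun h => by
    rw [hdim] at hm
    rw [hm, h] at hHdim
    exact lt_irrefl _ hHdim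
  obtain ⟨u, hu₁, hu₂⟩ := exists_Ga_hom m H₀ (Flag27.isSolvable_points (UnipFix19.isSolvableGrp_of_comm H₀)) hnt hm hm0
  haveI := hu₁; haveI := hu₂
  haveI : LocallyOfFiniteType (Red.Ga (Spec (CommRingCat.of k))).hom := RankCell14.lft_Ga _
  haveI : QuasiCompact (Red.Ga (Spec (CommRingCat.of k))).hom := by
    haveI : IsAffine Red.GaZ.{u}.left := inferInstanceAs (IsAffine (Spec (CommRingCat.of _)))
    haveI : IsAffineHom Red.GaZ.{u}.hom := isAffineHom_of_isAffine _
    exact MorphismProperty.pullback_snd _ _ (inferInstanceAs (QuasiCompact Red.GaZ.{u}.hom))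
  haveI : IsClosedImmersion u.left := AlgGrp14.isClosedImmersion_of_mono u
  exact hga (u ≫ v) inferInstance (inferInstanceAs (IsClosedImmersion (u.left ≫ v.left)))

end GrothLib.SplitRed1
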