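import Groth.Agent.Lib.SplitRed1.Split
import Groth.Agent.Lib.Chev24.Divisible
import Groth.Agent.Lib.NeronCompGrp24.Stab
import Groth.Agent.Lib.GITQuot.Orbit

/-!
# The reduced neutral component of a commutative group without additive subgroups
-/

set_option autoImplicit false
set_option linter.all false
set_option backward.isDefEq.respectTransparency false
set_option maxHeartbeats 1000000

universe u

open CategoryTheory CategoryTheory.Limits MonoidalCategory CartesianMonoidalCategory MonObj GrpObj AlgebraicGeometry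
open Topology

noncomputable section

namespace GrothLib.SplitRed1

open GrothLib

variable {k : Type u} [Field k]

/-- The quotient by a closed subgroup of a commutative group of finite type. -/
theorem exists_quot_comm {G N : Over (Spec (CommRingCat.of k))} [GrpObj G] [IsCommMonObj G] [GrpObj N]
    [LocallyOfFiniteType G.hom] [QuasiCompact G.hom] [LocallyOfFiniteType N.hom] (u : N ⟶ G) [IsMonHom u]
    [IsClosedImmersion u.left] :
    ∃ (Q : Over (Spec (CommRingCat.of k))) (_ : GrpObj Q) (q : G ⟶ Q), IsMonHom q ∧ LocallyOfFiniteType Q.hom ∧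
      QuasiCompact Q.hom ∧ Flat q.left ∧ Surjective q.left ∧ Epi q ∧ AlgGrp.IsKernel u q := by
  haveI : Mono u := Over.mono_of_mono_left u
  obtain ⟨X, p, hf, hs, hp, sq, -, hlft, -, hqc, -⟩ := GrothLib.QuotGrp14.exists_quotient_artin k u
  haveI := hlft
  haveI : QuasiCompact X.hom := hqc inferInstance
  haveI : LocallyOfFiniteType p.left := inferInstance
  have hcov : Chevalley.IsCover p := ⟨hf, hs, inferInstance⟩
  have hn : AlgGrp.IsNormalHom u := fun T g x => ⟨x, by rw [_root_.mul_comm g, mul_inv_cancel_right]⟩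
  have hker : ∀ {Y : Over (Spec (CommRingCat.of k))} (a b : Y ⟶ G),
      a ≫ p = b ≫ p ↔ ∃ h : Y ⟶ N, b = a * (h ≫ u) := by
    intro Y a b
    constructor
    · intro h
      obtain ⟨l, hl₁, hl₂⟩ := sq.exists_lift b a h.symm
      have e : b = (l ≫ fst N G ≫ u) * a := by
        rw [← hl₁, ← hl₂, ← GrothLib.GrpSchField.lift_fst_snd_comp l, GrothLib.QuotGrp14.lift_act]
        simp
      exact ⟨l ≫ fst N G, by rw [e, _root_.mul_comm, Category.assoc]⟩
    · rintro ⟨h, rfl⟩
      have e : ((h ≫ u) * a) ≫ p = a ≫ p := by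
        rw [← GrothLib.QuotGrp14.lift_act, Category.assoc, sq.w, ← Category.assoc, lift_snd]
      rw [_root_.mul_comm a, e]
  obtain ⟨str, hhom⟩ := Chevalley.exists_grpObj_quotient u hn p hcov hker
  letI := str
  haveI := hhom
  have hone : ∀ {T : Over (Spec (CommRingCat.of k))} (x : T ⟶ G), x ≫ p = 1 ↔ ∃ h : T ⟶ N, x = h ≫ u := by
    intro T x
    rw [eq_comm, ← MonObj.one_comp p, hker]
    simp only [_root_.one_mul]
  refine ⟨X, str, p, hhom, inferInstance, inferInstance, hf, hs, Chevalley.epi_of_cover p hcov, ?_⟩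
  have w : u ≫ p = toUnit N ≫ η[X] := by
    rw [← Hom.one_def, hone]
    exact ⟨𝟙 N, (Category.id_comp u).symm⟩
  have key : ∀ (T : Over (Spec (CommRingCat.of k))) (x : T ⟶ G) (t : T ⟶ 𝟙_ (Over (Spec (CommRingCat.of k)))),
      x ≫ p = t ≫ η[X] → ∃ h : T ⟶ N, x = h ≫ u := fun T x t h => (hone x).1 (by
    rw [h, Hom.one_def, toUnit_unique t (toUnit T)])
  refine IsPullback.of_isLimit' ⟨w⟩ (PullbackCone.isLimitAux _
    (fun s => (key _ s.fst s.snd s.condition).choose) ?_ (fun s => toUnit_unique _ _) ?_)
  · intro s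
    exact (key _ s.fst s.snd s.condition).choose_spec.symm
  · intro s m hm
    refine (cancel_mono u).1 ?_
    exact (hm WalkingCospan.left).trans (key _ s.fst s.snd s.condition).choose_spec

/-- Over an algebraically closed field some power map has the reduced neutral component as image. -/
theorem exists_pow_image [IsAlgClosed k] (G : Over (Spec (CommRingCat.of k))) [GrpObj G] [IsCommMonObj G]
    [LocallyOfFiniteType G.hom] [QuasiCompact G.hom]
    (hga : ∀ u : Red.Ga (Spec (CommRingCat.of k)) ⟶ G, IsMonHom u → IsClosedImmersion u.left → False) :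
    ∃ (n : ℕ) (R : Over (Spec (CommRingCat.of k))) (_ : GrpObj R) (g : G ⟶ R) (r : R ⟶ G), IsMonHom g ∧ IsMonHom r ∧
      IsClosedImmersion r.left ∧ Smooth R.hom ∧ ConnectedSpace R.left ∧ Surjective g.left ∧
      g ≫ r = (𝟙 G : G ⟶ G) ^ n ∧ IsOpen (Set.range r.left) := by
  haveI : IsSeparated G.hom := GrpSchField.isSeparated G
  obtain ⟨R, _, r, hr, hrc, hRs, hRc, hRdim, -⟩ := Chev24.exists_redNeutral G
  haveI := hr; haveI := hrc; haveI := hRs; haveI := hRc
  haveI : Mono r := Over.mono_of_mono_left r
  haveI : LocallyOfFiniteType R.hom := inferInstance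
  haveI : QuasiCompact R.hom := by rw [← Over.w r]; infer_instance
  haveI : IsCommMonObj R := AlgGrp14.isCommMonObj_of_mono r
  obtain ⟨Q, _, q, hq, hQl, hQq, hqf, hqs, hqe, hker⟩ := exists_quot_comm r
  haveI := hq; haveI := hQl; haveI := hQq; haveI := hqf; haveI := hqs; haveI := hqe
  haveI : IsCommMonObj Q := AlgGrp14.isCommMonObj_of_epi q
  haveI : IsSeparated Q.hom := GrpSchField.isSeparated Q
  haveI : QuasiCompact q.left := by
    haveI : QuasiCompact (q.left ≫ Q.hom) := by rw [Over.w q]; infer_instance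
    exact QuasiCompact.of_comp q.left Q.hom
  have hdim : topologicalKrullDim G.left = topologicalKrullDim Q.left + topologicalKrullDim G.left := by
    have h := Neutral.dim_eq_add_field q
    have e1 : topologicalKrullDim (Set.range q.left) = topologicalKrullDim Q.left := by
      rw [q.left.surjective.range_eq]
      exact (Homeomorph.Set.univ _).isHomeomorph.topologicalKrullDim_eq _
    have e2 : topologicalKrullDim ↥(pullback q.left η[Q].left) = topologicalKrullDim R.left :=
      (IsHomeomorph.topologicalKrullDim_eq _ (hker.map (Over.forget _)).isoPullback.hom.homeomorph.isHomeomorph).symm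
    rw [e1, e2, hRdim] at h
    exact h
  haveI : IsIntegral R.left := Euler.isIntegral_of_smooth_connected k R.hom
  obtain ⟨d, hd⟩ := Chev24.exists_nat_dim (k := k) R
  rw [hRdim] at hd
  have hQ0 : topologicalKrullDim Q.left ≤ 0 := by
    rw [hd] at hdim
    revert hdim
    generalize topologicalKrullDim Q.left = t
    intro ht
    induction t using WithBot.recBotCoe with
    | bot => exact bot_le
    | coe a =>
      induction a using ENat.recTopCoe with
      | top =>
        have h' : ((d : ℕ∞) : WithBot ℕ∞) = ((⊤ + d : ℕ∞) : WithBot ℕ∞) := ht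
        rw [top_add, WithBot.coe_inj] at h'
        exact absurd h' (ENat.coe_ne_top d)
      | coe m =>
        have : d = m + d := by exact_mod_cast ht
        exact_mod_cast (show m ≤ 0 by omega)
  haveI : IsFinite Q.hom := Chev24.isFinite_of_dim_zero Q hQ0
  haveI : Flat Q.hom := DiagGrp.flat_of_field _
  haveI : LocallyOfFinitePresentation Q.hom := GrpSchField.lfp_of_isLocallyNoetherian _
  let n := Scheme.Hom.finrank Q.hom (IsLocalRing.closedPoint k)
  haveI : Subsingleton ↥(Spec (CommRingCat.of k)) := inferInstanceAs (Subsingleton (PrimeSpectrum k))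
  have hQn : ∀ {T : Over (Spec (CommRingCat.of k))} (x : T ⟶ Q), x ^ n = 1 :=
    fun x => GrpDeligne.pow_eq_one Q n (fun s => by rw [Subsingleton.elim s (IsLocalRing.closedPoint k)]) x
  have hn : n ≠ 0 := by
    intro h0
    have h1 := Q.hom.one_le_finrank_iff_surjective.2 ⟨fun s => ⟨η[Q].left (IsLocalRing.closedPoint k),
      Subsingleton.elim _ _⟩⟩ (IsLocalRing.closedPoint k)
    exact absurd h1 (by show ¬ 1 ≤ n; omega)
  have hkill : ((𝟙 G : G ⟶ G) ^ n) ≫ q = toUnit G ≫ η[Q] := by
    rw [MonObj.pow_comp, Category.id_comp, ← Hom.one_def]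
    exact hQn q
  obtain ⟨g, hg, -⟩ := hker.exists_lift _ _ hkill
  haveI : IsMonHom ((𝟙 G : G ⟶ G) ^ n) := GrpDeligne.isMonHom_pow (𝟙 G) n
  haveI hgm : IsMonHom g :=
    ⟨by rw [← cancel_mono r, Category.assoc, hg, IsMonHom.one_hom (f := r), IsMonHom.one_hom],
      by rw [← cancel_mono r, Category.assoc, hg, IsMonHom.mul_hom, Category.assoc, IsMonHom.mul_hom (f := r),
        ← Category.assoc, tensorHom_comp_tensorHom, hg]⟩
  haveI : Surjective ((𝟙 R : R ⟶ R) ^ n).left := surjective_pow hn R (fun u _ hu => by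
    haveI := hu
    exact hga (u ≫ r) inferInstance (inferInstanceAs (IsClosedImmersion (u.left ≫ r.left))))
  have hrg : r ≫ g = (𝟙 R : R ⟶ R) ^ n := by
    rw [← cancel_mono r, Category.assoc, hg, MonObj.comp_pow, Category.comp_id, MonObj.pow_comp, Category.id_comp]
  haveI : Surjective g.left := by
    haveI : Surjective (r.left ≫ g.left) := by rw [← Over.comp_left, hrg]; infer_instance
    exact Surjective.of_comp r.left g.left
  refine ⟨n, R, inferInstance, g, r, hgm, hr, hrc, hRs, hRc, inferInstance, hg, ?_⟩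
  haveI : DiscreteTopology Q.left := by
    refine discreteTopology_iff_forall_isOpen.2 fun s => ?_
    haveI : DiscreteTopology ↥(Q.hom ⁻¹' {IsLocalRing.closedPoint k}) :=
      (Q.hom.isDiscrete_preimage_singleton _).to_subtype
    have huniv : Q.hom ⁻¹' {IsLocalRing.closedPoint k} = Set.univ :=
      Set.eq_univ_of_forall fun x => Subsingleton.elim _ _
    have h2 : IsOpen (Subtype.val ⁻¹' s : Set ↥(Q.hom ⁻¹' {IsLocalRing.closedPoint k})) := isOpen_discrete _
    have h3 := (huniv ▸ isOpen_univ : IsOpen (Q.hom ⁻¹' {IsLocalRing.closedPoint k})).isOpenMap_subtype_val _ h2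
    rwa [Set.image_preimage_eq_inter_range, Subtype.range_val, huniv, Set.inter_univ] at h3
  have hr' : Set.range r.left = q.left ⁻¹' Set.range η[Q].left :=
    GITQuot.range_eq_preimage (hker.map (Over.forget _))
  rw [hr']
  exact (isOpen_discrete _).preimage q.left.continuous

end GrothLib.SplitRed1
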