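import Groth.Agent.Lib.SplitRed1.Div
import Groth.Agent.Lib.Flag27.GeomPt

/-!
# Split reduction for groups without additive subgroups
-/

set_option autoImplicit false
set_option linter.all false
set_option backward.isDefEq.respectTransparency false
set_option backward.isDefEq.respectTransparency.types false
set_option maxHeartbeats 1000000

universe u

open CategoryTheory CategoryTheory.Limits MonoidalCategory CartesianMonoidalCategory MonObj AlgebraicGeometry

noncomputable section

namespace GrothLib.SplitRed1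

open GrothLib GrothLib.NeronCompGrp24

variable {k : Type u} [Field k] [IsAlgClosed k] (G : Over (Spec (CommRingCat.of k))) [GrpObj G] [IsCommMonObj G]
  [Smooth G.hom] [QuasiCompact G.hom]

/-- The neutral component is divisible. -/
theorem exists_root
    (hga : ∀ u : Red.Ga (Spec (CommRingCat.of k)) ⟶ G, IsMonHom u → IsClosedImmersion u.left → False)
    (n : ℕ) (hn : n ≠ 0) {a : 𝟙_ (Over (Spec (CommRingCat.of k))) ⟶ G} (ha : a ∈ neutralPts G) :
    ∃ w ∈ neutralPts G, w ^ n = a := by
  haveI : IsSeparated G.hom := GrothLib.GrpSchField.isSeparated G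
  haveI : Subsingleton ↥(𝟙_ (Over (Spec (CommRingCat.of k)))).left := inferInstanceAs (Subsingleton (PrimeSpectrum k))
  obtain ⟨G₀, _, j, hjm, hjo, hrange, hsm, hqc⟩ := GrothLib.Neutral.exists_neutralPart G
  haveI := hjm; haveI := hjo; haveI := hsm; haveI := hqc
  rw [GrothLib.Induce27.neutralSet_eq G (IsLocalRing.closedPoint k)] at hrange
  haveI hconn : ConnectedSpace G₀.left := by
    have hc : _root_.IsConnected (Set.range j.left.base) := hrange ▸ isConnected_connectedComponent
    haveI : ConnectedSpace (Set.range j.left.base) := Subtype.connectedSpace hc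
    exact j.left.isOpenEmbedding.toIsEmbedding.toHomeomorph.symm.surjective.connectedSpace
      j.left.isOpenEmbedding.toIsEmbedding.toHomeomorph.symm.continuous
  haveI : Mono j := Over.mono_of_mono_left j
  haveI : IsCommMonObj G₀ := AlgGrp14.isCommMonObj_of_mono j
  haveI : IsClosedImmersion j.left :=
    IsClosedImmersion.of_isPreimmersion _ (hrange ▸ isClosed_connectedComponent)
  haveI := surjective_pow hn G₀ (fun u _ hu => by
    haveI := hu
    exact hga (u ≫ j) inferInstance (inferInstanceAs (IsClosedImmersion (u.left ≫ j.left))))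
  obtain ⟨z, hz⟩ : ptOf G a ∈ Set.range j.left := hrange ▸ (mem_neutralPts_iff G a).1 ha
  haveI : Subsingleton ↥(Spec (CommRingCat.of k)) := inferInstanceAs (Subsingleton (PrimeSpectrum k))
  have hac : IsClosed ({ptOf G a} : Set G.left) := by
    haveI := isClosedImmersion_of_comp_eq_id _ _ (Over.w a)
    have h := a.left.isClosedEmbedding.isClosed_range
    convert h
    ext b
    exact ⟨fun hb => ⟨_, hb.symm⟩, fun ⟨q, hq⟩ => by
      rw [← hq, Subsingleton.elim (α := ↥(Spec (CommRingCat.of k))) q (IsLocalRing.closedPoint k)]; rfl⟩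
  haveI : JacobsonSpace G₀.left := LocallyOfFiniteType.jacobsonSpace G₀.hom
  let f : G₀ ⟶ G₀ := 𝟙 G₀ ^ n
  obtain ⟨b, hb⟩ := f.left.surjective z
  have hfj : f ≫ j = j ^ n := by rw [MonObj.pow_comp, Category.id_comp]
  have hb' : (j ^ n).left b = ptOf G a := by rw [← hfj, Over.comp_left, Scheme.Hom.comp_apply, hb, hz]
  obtain ⟨w, hw, hwc⟩ := nonempty_inter_closedPoints (X := G₀.left) (Z := (j ^ n).left ⁻¹' {ptOf G a})
    ⟨b, hb'⟩ (hac.preimage (j ^ n).left.continuous).isLocallyClosed
  let w₀ : 𝟙_ (Over (Spec (CommRingCat.of k))) ⟶ G₀ :=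
    Over.homMk (pointOfClosedPoint G₀.hom w hwc) (pointOfClosedPoint_comp G₀.hom w hwc)
  refine ⟨w₀ ≫ j, ?_, ?_⟩
  · rw [mem_neutralPts_iff, ← hrange]
    exact ⟨w₀.left (IsLocalRing.closedPoint k), (Scheme.Hom.comp_apply _ _ _).symm⟩
  · rw [← MonObj.comp_pow]
    refine pt_ext _ _ ?_
    rw [Over.comp_left, Scheme.Hom.comp_apply]
    exact (congrArg (j ^ n).left (pointOfClosedPoint_apply G₀.hom w hwc _)).trans hw

/-- The component group extension splits. -/
theorem split (hga : ∀ u : Red.Ga (Spec (CommRingCat.of k)) ⟶ G, IsMonHom u → IsClosedImmersion u.left → False)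
    (x : 𝟙_ (Over (Spec (CommRingCat.of k))) ⟶ G) :
    ∃ y, y * x⁻¹ ∈ neutralPts G ∧ ∀ n : ℕ, y ^ n = 1 ↔ x ^ n ∈ neutralPts G := by
  classical
  have hex := exists_pow_mem G x
  let N := Nat.find hex
  obtain ⟨hN0, hN⟩ : 0 < N ∧ x ^ N ∈ neutralPts G := Nat.find_spec hex
  obtain ⟨w, hw, hwN⟩ := exists_root G hga N hN0.ne' hN
  have hy : (x * w⁻¹) ^ N = 1 := by rw [_root_.mul_pow, inv_pow, hwN, mul_inv_cancel]
  have hmem : x * w⁻¹ * x⁻¹ ∈ neutralPts G := by
    rw [_root_.mul_comm x, mul_inv_cancel_right]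
    exact inv_mem hw
  refine ⟨_, hmem, fun n => ⟨fun hyn => ?_, fun hxn => ?_⟩⟩
  · have h3 := pow_mem hmem n
    rw [_root_.mul_pow, inv_pow, hyn, _root_.one_mul] at h3
    exact inv_mem_iff.1 h3
  · have h1 : x ^ (n % N) ∈ neutralPts G := by
      have e : x ^ (n % N) = x ^ n * ((x ^ N) ^ (n / N))⁻¹ := by
        rw [eq_mul_inv_iff_mul_eq, ← pow_mul, ← pow_add, Nat.mod_add_div]
      rw [e]
      exact mul_mem hxn (inv_mem (pow_mem hN _))
    have h2 : n % N = 0 := by
      by_contra hne
      exact Nat.find_min hex (Nat.mod_lt n hN0) ⟨Nat.pos_of_ne_zero hne, h1⟩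
    rw [← Nat.mod_add_div n N, h2, _root_.zero_add, pow_mul, hy, one_pow]

omit [IsAlgClosed k] in
theorem isPullback_map {S T : Scheme.{u}} (h : T ⟶ S) {X Y : Over S} (u : X ⟶ Y) :
    IsPullback (pullback.fst X.hom h) ((Over.pullback h).map u).left u.left (pullback.fst Y.hom h) := by
  refine IsPullback.of_bot ?_ (pullback.lift_fst _ _ _).symm (IsPullback.of_hasPullback Y.hom h)
  rw [Over.w u]
  convert IsPullback.of_hasPullback X.hom h using 1
  exact pullback.lift_snd _ _ _

omit [IsAlgClosed k] in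
/-- Unipotent rank zero of a geometric fibre over an extension field forbids additive subgroups. -/
theorem noGa_of_fibre {S : Scheme.{u}} (N : Over S) [GrpObj N] (b : Spec (CommRingCat.of k) ⟶ S) (s : S)
    (q : Spec (CommRingCat.of (AlgebraicClosure (S.residueField s))) ⟶ Spec (CommRingCat.of k))
    (hq : q ≫ b = Red.geomPt s) (h : SGA7.FibreUnipotentRankZero s N)
    (v : Red.Ga (Spec (CommRingCat.of k)) ⟶ Red.bc b N) (hv : IsMonHom v) (hvc : IsClosedImmersion v.left) : False := by
  let e1 := DiagGrp.bcGrpComp Red.GaZ.{u} (Limits.IsTerminal.from specULiftZIsTerminal (Spec (CommRingCat.of k))) q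
    (Limits.IsTerminal.from specULiftZIsTerminal _) (specULiftZIsTerminal.hom_ext _ _)
  let e2 := DiagGrp.bcGrpComp N b q (Red.geomPt s) hq.symm
  haveI : IsMonHom e1.hom.hom.hom := e1.hom.hom.isMonHom_hom
  haveI : IsMonHom e2.inv.hom.hom := e2.inv.hom.isMonHom_hom
  haveI : IsIso e1.hom.hom.hom := inferInstanceAs (IsIso ((Grp.forget _).mapIso e1).hom)
  haveI : IsIso e2.inv.hom.hom := inferInstanceAs (IsIso ((Grp.forget _).mapIso e2).inv)
  haveI : IsClosedImmersion ((Over.pullback q).map v).left :=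
    MorphismProperty.of_isPullback (isPullback_map q v) hvc
  let j : Red.Ga _ ⟶ Red.geomFibre s N := e1.hom.hom.hom ≫ (Over.pullback q).map v ≫ e2.inv.hom.hom
  haveI : IsIso e1.hom.hom.hom.left := inferInstanceAs (IsIso ((Over.forget _).map e1.hom.hom.hom))
  haveI : IsIso e2.inv.hom.hom.left := inferInstanceAs (IsIso ((Over.forget _).map e2.inv.hom.hom))
  exact h j inferInstance
    (inferInstanceAs (IsClosedImmersion (e1.hom.hom.hom.left ≫ ((Over.pullback q).map v).left ≫ e2.inv.hom.hom.left)))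

end GrothLib.SplitRed1
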