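import Groth.Agent.Lib.SplitRed1.IsogFibre

/-!
# Groups without additive subgroups and without torsion of one prime order
-/

set_option autoImplicit false
set_option linter.all false
set_option backward.isDefEq.respectTransparency false
set_option maxHeartbeats 1000000

universe u

open CategoryTheory CategoryTheory.Limits MonoidalCategory CartesianMonoidalCategory MonObj GrpObj AlgebraicGeometry
open Topology

noncomputable section

namespace GrothLib.SplitRed1

open GrothLib GrothLib.DiagGrp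

variable {k : Type u} [Field k]

section torus

attribute [-instance] Hom.commGroup Hom.commMonoid CommGrpObj.toIsCommMonObj

/-- A torus mapped monomorphically to a group without torsion of order prime to the characteristic is trivial. -/
theorem isTrivialGrp_of_mono_prime {T U : Over (Spec (CommRingCat.of k))} [GrpObj T] [GrpObj U] (hT : Red.IsTorus T)
    (j : T ⟶ U) [IsMonHom j] [Mono j]
    {ℓ : ℕ} (hℓ : ℓ.Prime) (hℓk : (ℓ : k) ≠ 0)
    (hU : ∀ (Y : Over (Spec (CommRingCat.of k))) (x : Y ⟶ U), x ^ ℓ = 1 → x = 1) :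
    Red.IsTrivialGrp T := by
  obtain ⟨L, _, _, _, r, ⟨e⟩⟩ := GrothLib.Rigidity.exists_split hT
  let f := Spec.map (CommRingCat.ofHom (algebraMap k L))
  let a : Red.bc f T ≅ Red.DS (Spec (CommRingCat.of L)) (Fin r → ℤ) := (Grp.forget _).mapIso e
  haveI : IsMonHom a.inv := e.inv.hom.isMonHom_hom
  have hr : r = 0 := by
    by_contra hr
    have hℓL : (ℓ : L) ≠ 0 := fun h => hℓk ((algebraMap k L).injective (by rw [map_natCast, map_zero, h]))
    haveI : NeZero (ℓ : L) := ⟨hℓL⟩
    obtain ⟨ζ, hζ⟩ := HasEnoughRootsOfUnity.exists_primitiveRoot L ℓ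
    let χ : Multiplicative (Fin r → ℤ) →* L :=
      (Units.coeHom L).comp
        ((zpowersHom Lˣ (hζ.isUnit hℓ.ne_zero).unit).comp
          (AddMonoidHom.toMultiplicative (Pi.evalAddMonoidHom (fun _ : Fin r => ℤ) ⟨0, Nat.pos_of_ne_zero hr⟩)))
    have hχ : χ ^ ℓ = 1 := by
      refine MonoidHom.ext fun m => ?_
      simp only [MonoidHom.pow_apply, MonoidHom.one_apply, χ, MonoidHom.coe_comp, Function.comp_apply,
        Units.coeHom_apply, zpowersHom_apply, ← Units.val_pow_eq_pow_val]
      rw [← zpow_natCast, ← zpow_mul, mul_comm, zpow_mul, zpow_natCast,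
        show (hζ.isUnit hℓ.ne_zero).unit ^ ℓ = 1 from Units.ext (by simp [hζ.pow_eq_one]), one_zpow, Units.val_one]
    let z := dsPoint (Fin r → ℤ) (𝟙 (Spec (CommRingCat.of L))) χ
    let Y := Over.mk (𝟙 (Spec (CommRingCat.of L)))
    let x : (Over.map f).obj Y ⟶ T := (bcPointMulEquiv f T Y).symm (z ≫ a.inv)
    have hx : x ^ ℓ = 1 := by
      rw [show x ^ ℓ = (bcPointMulEquiv f T Y).symm ((z ≫ a.inv) ^ ℓ) from (map_pow _ _ ℓ).symm,
        show (z ≫ a.inv) ^ ℓ = (z ^ ℓ) ≫ a.inv from (map_pow (GrothLib.RankOne.postHom a.inv Y) z ℓ).symm,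
        show z ^ ℓ = dsPoint (Fin r → ℤ) (𝟙 _) (χ ^ ℓ) from (map_pow (dsPoint (Fin r → ℤ) (𝟙 _)) χ ℓ).symm,
        hχ, map_one, MonObj.one_comp, map_one]
    have hxj : x ≫ j = 1 := hU _ _ (by
      rw [show (x ≫ j) ^ ℓ = (x ^ ℓ) ≫ j from (map_pow (GrothLib.RankOne.postHom j _) x ℓ).symm, hx,
        MonObj.one_comp])
    have hx1 : x = 1 := (cancel_mono j).mp (hxj.trans (MonObj.one_comp j).symm)
    have hz : z ≫ a.inv = 1 := (bcPointMulEquiv f T Y).symm.injective (hx1.trans (map_one _).symm)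
    have hz1 : z = 1 := (cancel_mono a.inv).mp (hz.trans (MonObj.one_comp a.inv).symm)
    have hχ1 : χ = 1 := (dsPoint (Fin r → ℤ) (𝟙 (Spec (CommRingCat.of L)))).injective (hz1.trans (map_one _).symm)
    have h1 : χ (Multiplicative.ofAdd fun _ => 1) = 1 := by rw [hχ1]; rfl
    simp [χ, zpowersHom_apply] at h1
    exact hℓ.ne_one ((hζ.eq_orderOf).trans (by rw [h1, orderOf_one]))
  subst hr
  haveI : IsIso a.hom.left := inferInstanceAs (IsIso ((Over.forget _).map a.hom))
  haveI := NoTorus14.isIso_DS_hom (Spec (CommRingCat.of L)) (Fin 0 → ℤ)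
  have h0 : IsIso (Red.bc f T).hom := by
    rw [← Over.w a.hom]; infer_instance
  haveI : Flat f := flat_of_field (L := k) _
  haveI : Surjective f := ⟨fun x => ⟨IsLocalRing.closedPoint L, Subsingleton.elim (α := PrimeSpectrum k) _ _⟩⟩
  exact MorphismProperty.of_isPullback_of_descendsAlong (P := MorphismProperty.isomorphisms Scheme.{u})
    (Q := @Surjective ⊓ @Flat ⊓ @QuasiCompact) (IsPullback.of_hasPullback T.hom f).flip
    ⟨⟨inferInstance, inferInstance⟩, inferInstance⟩ h0

end torus

variable [IsAlgClosed k]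

/-- A connected smooth commutative group without additive subgroups and without torsion of invertible order is a
point. -/
theorem subsingleton_of_noTorsion_prime (G : Over (Spec (CommRingCat.of k))) [GrpObj G] [IsCommMonObj G]
    [Smooth G.hom] [QuasiCompact G.hom] [ConnectedSpace G.left]
    (hga : ∀ u : Red.Ga (Spec (CommRingCat.of k)) ⟶ G, IsMonHom u → IsClosedImmersion u.left → False)
    {ℓ : ℕ} (hℓ : ℓ.Prime) (hℓk : (ℓ : k) ≠ 0)
    (hU : ∀ (Y : Over (Spec (CommRingCat.of k))) (x : Y ⟶ G), x ^ ℓ = 1 → x = 1) :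
    Subsingleton G.left := by
  haveI : IsIntegral G.left := Euler.isIntegral_of_smooth_connected k G.hom
  haveI : IsSeparated G.hom := GrpSchField.isSeparated G
  by_cases hp : IsProper G.hom
  · haveI := Cube.geometricallyIntegral_of_isAlgClosed G
    obtain ⟨g, hg⟩ := Chev24.exists_nat_dim (k := k) G
    have hcard := AbTors.card_torsPts (A := G) hg hℓk (Ω := k) (𝟙 _)
    haveI : Subsingleton ↥(AbDual.torsPts G ℓ (Over.mk (𝟙 (Spec (CommRingCat.of k))))) :=
      ⟨fun a b => Subtype.ext ((hU _ a.1 ((AbDual.mem_torsPts G a.1).1 a.2)).trans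
        (hU _ b.1 ((AbDual.mem_torsPts G b.1).1 b.2)).symm)⟩
    rw [Nat.card_of_subsingleton ⟨1, Subgroup.one_mem _⟩] at hcard
    have hg0 : g = 0 := by
      by_contra hg0
      exact (Nat.one_lt_pow (by omega) hℓ.one_lt).ne hcard
    have h := GrothLib.Dim.subsingleton_of_dim_eq_zero (S := (Set.univ : Set G.left)) isClosed_univ
      (IrreducibleSpace.isIrreducible_univ _)
      (((Homeomorph.Set.univ G.left).isHomeomorph.topologicalKrullDim_eq _).le.trans (by rw [hg, hg0]; exact_mod_cast le_rfl))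
    exact Set.subsingleton_univ_iff.1 h
  exfalso
  obtain ⟨H, _, j, hj, hjc, hHs, hHa, hHdim⟩ := Chev24.exists_affine_of_not_isProper hp
  haveI := hj; haveI := hjc; haveI := hHs; haveI := hHa
  haveI : QuasiCompact H.hom := by rw [← Over.w j]; infer_instance
  obtain ⟨H₀, _, i, hi, hic, hs₀, hc₀, hdim, -⟩ := Chev24.exists_redNeutral H
  haveI := hi; haveI := hic; haveI := hs₀; haveI := hc₀
  let v : H₀ ⟶ G := i ≫ j
  haveI : IsClosedImmersion v.left := inferInstanceAs (IsClosedImmersion (i.left ≫ j.left))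
  haveI : Mono v := Over.mono_of_mono_left v
  haveI : IsAffine H₀.left := isAffine_of_isAffineHom i.left
  haveI : QuasiCompact H₀.hom := by rw [← Over.w v]; infer_instance
  haveI : IsIntegral H₀.left := Euler.isIntegral_of_smooth_connected k H₀.hom
  haveI : IsCommMonObj H₀ := AlgGrp14.isCommMonObj_of_mono v
  have hnt : Red.HasNoSubtorus k H₀ := fun T _ t _ _ hT => isTrivialGrp_of_mono_prime hT (t ≫ v) hℓ hℓk hU
  obtain ⟨m, hm⟩ := Chev24.exists_nat_dim (k := k) H₀
  have hm0 : m ≠ 0 := fun h => by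
    rw [hdim] at hm
    rw [hm, h] at hHdim
    exact lt_irrefl _ hHdim
  obtain ⟨u, hu₁, hu₂⟩ := exists_Ga_hom m H₀ (Flag27.isSolvable_points (UnipFix19.isSolvableGrp_of_comm H₀)) hnt hm hm0
  haveI := hu₁; haveI := hu₂
  haveI : LocallyOfFiniteType (Red.Ga (Spec (CommRingCat.of k))).hom := RankCell14.lft_Ga _
  haveI : QuasiCompact (Red.Ga (Spec (CommRingCat.of k))).hom := by
    haveI : IsAffine Red.GaZ.{u}.left := inferInstanceAs (IsAffine (Spec (CommRingCat.of _)))
    haveI : IsAffineHom Red.GaZ.{u}.hom := isAffineHom_of_isAffine _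
    exact MorphismProperty.pullback_snd _ _ (inferInstanceAs (QuasiCompact Red.GaZ.{u}.hom))
  haveI : IsClosedImmersion u.left := AlgGrp14.isClosedImmersion_of_mono u
  exact hga (u ≫ v) inferInstance (inferInstanceAs (IsClosedImmersion (u.left ≫ v.left)))

end GrothLib.SplitRed1
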